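import Cfsg.Agent.Lib.AbelianTwo.Induced

/-!
The quotient of `W N(P)` by `W P` is regular on the involutions of an elementary abelian `P`.
-/

set_option autoImplicit false
set_option linter.unusedSectionVars false
set_option linter.style.haveILetI false

open Cfsg CfsgLib.TwoFusion CfsgLib.Involutions

namespace CfsgLib.AbelianTwo

variable {G : Type*} [Group G] [Finite G]

local notation "CG(" x ")" => Subgroup.centralizer ({x} : Set _)

namespace Hyp

variable {P : Sylow 2 G} (h : Hyp P)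
include h

theorem commute_of_normalizer_inf {n x : G} (hn : n ∈ Subgroup.normalizer ((P : Subgroup G) : Set G))
    (hn0 : n ∈ innerSub h) (hx : x ∈ (P : Subgroup G)) : n * x * n⁻¹ = x := by
  obtain ⟨w, hw, p, hp, rfl⟩ := h.mem_innerSub_iff.1 hn0
  have h1 : w * p * x * (w * p)⁻¹ = w * x * w⁻¹ := by
    calc w * p * x * (w * p)⁻¹ = w * (p * x) * p⁻¹ * w⁻¹ := by group
      _ = w * x * w⁻¹ := by rw [h.comm p hp x hx]; group
  have h2 : w * x * w⁻¹ ∈ (P : Subgroup G) :=
    h1 ▸ (Subgroup.mem_normalizer_iff.1 hn x).1 hx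
  have h3 : x⁻¹ * (w * x * w⁻¹) ∈ coreClosure h ⊓ (P : Subgroup G) := by
    refine ⟨?_, mul_mem ((P : Subgroup G).inv_mem hx) h2⟩
    show x⁻¹ * (w * x * w⁻¹) ∈ coreClosure h
    rw [show x⁻¹ * (w * x * w⁻¹) = (x⁻¹ * w * x) * w⁻¹ by group]
    refine mul_mem ?_ (inv_mem hw)
    have h4 := (Subgroup.mem_normalizer_iff.1 (h.sylow_le_normalizer ((P : Subgroup G).inv_mem hx)) w).1 hw
    rwa [inv_inv] at h4
  rw [h.inf_coreClosure, Subgroup.mem_bot, inv_mul_eq_one] at h3
  rw [h1, ← h3]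

/-- The index of `W P` in `W N(P)` is `|P| - 1`. -/
theorem card_outer (hP : ¬ (P : Subgroup G).Normal) (hel : ∀ g ∈ (P : Subgroup G), g * g = 1) :
    Nat.card (bigSub h ⧸ (innerSub h).subgroupOf (bigSub h)) + 1 = Nat.card (P : Subgroup G) := by
  classical
  haveI := Fintype.ofFinite (P : Subgroup G)
  obtain ⟨x, hxP, hx⟩ := h.exists_involution
  set N := (innerSub h).subgroupOf (bigSub h)
  have hnq : ∀ q : bigSub h ⧸ N, ∃ n : bigSub h,
      (n : G) ∈ Subgroup.normalizer ((P : Subgroup G) : Set G) ∧ QuotientGroup.mk n = q := by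
    intro q
    obtain ⟨⟨g, hg⟩, rfl⟩ := QuotientGroup.mk_surjective q
    obtain ⟨w, hw, n, hn, rfl⟩ := h.mem_bigSub_iff.1 hg
    refine ⟨⟨n, Subgroup.mem_sup_right hn⟩, hn, QuotientGroup.eq.2 (Subgroup.mem_subgroupOf.2 ?_)⟩
    show n⁻¹ * (w * n) ∈ innerSub h
    refine Subgroup.mem_sup_left ?_
    have h4 := (Subgroup.mem_normalizer_iff.1 (h.normalizer_le (inv_mem hn)) w).1 hw
    rwa [inv_inv, mul_assoc] at h4
  choose n hn hnq using hnq
  have hkey : ∀ a b : bigSub h, (a : G) ∈ Subgroup.normalizer ((P : Subgroup G) : Set G) →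
      (b : G) ∈ Subgroup.normalizer ((P : Subgroup G) : Set G) →
      ((a : G) * x * (a : G)⁻¹ = (b : G) * x * (b : G)⁻¹ ↔
        (QuotientGroup.mk a : bigSub h ⧸ N) = QuotientGroup.mk b) := by
    intro a b ha hb
    rw [QuotientGroup.eq]
    constructor
    · intro e
      refine Subgroup.mem_subgroupOf.2 (h.centralizer_le_innerSub hxP hx ?_)
      rw [Subgroup.mem_centralizer_singleton_iff]
      show (a : G)⁻¹ * (b : G) * x = x * ((a : G)⁻¹ * (b : G))
      calc (a : G)⁻¹ * (b : G) * x = (a : G)⁻¹ * ((b : G) * x * (b : G)⁻¹) * (b : G) := by group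
        _ = x * ((a : G)⁻¹ * (b : G)) := by rw [← e]; group
    · intro e
      have h1 := h.commute_of_normalizer_inf (mul_mem (inv_mem ha) hb)
        (Subgroup.mem_subgroupOf.1 e) hxP
      calc (a : G) * x * (a : G)⁻¹ =
          (a : G) * ((a : G)⁻¹ * (b : G) * x * ((a : G)⁻¹ * (b : G))⁻¹) * (a : G)⁻¹ := by
            rw [h1]
        _ = (b : G) * x * (b : G)⁻¹ := by group
  let f : bigSub h ⧸ N → {p : (P : Subgroup G) // p ≠ 1} := fun q =>
    ⟨⟨(n q : G) * x * (n q : G)⁻¹, (Subgroup.mem_normalizer_iff.1 (hn q) x).1 hxP⟩, fun e =>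
      ne_one hx (conj_eq_one_iff.1 (congrArg Subtype.val e))⟩
  have hbij : Function.Bijective f := by
    refine ⟨fun q q' e => ?_, fun p => ?_⟩
    · have e1 := congrArg (fun z : {p : (P : Subgroup G) // p ≠ 1} => ((z : (P : Subgroup G)) : G)) e
      have e2 := (hkey _ _ (hn q) (hn q')).1 e1
      rwa [hnq, hnq] at e2
    · have hp2 : orderOf ((p : (P : Subgroup G)) : G) = 2 :=
        Involutions.orderOf_eq_two_iff.2 ⟨hel _ p.1.2, fun e => p.2 (Subtype.ext e)⟩
      obtain ⟨m, hm, hme⟩ := h.exists_normalizer hxP p.1.2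
        (isConj_involutions (h.stronglyEmbedded hP) hx hp2)
      refine ⟨QuotientGroup.mk ⟨m, Subgroup.mem_sup_right hm⟩, Subtype.ext (Subtype.ext ?_)⟩
      exact ((hkey _ _ (hn _) hm).2 (hnq _)).trans hme
  have h2 : Nat.card {p : (P : Subgroup G) // p ≠ 1} + 1 = Nat.card (P : Subgroup G) := by
    rw [Nat.card_eq_fintype_card, Nat.card_eq_fintype_card, Fintype.card_subtype_compl,
      Fintype.card_subtype_eq]
    have : 0 < Fintype.card (P : Subgroup G) := Fintype.card_pos
    omega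
  rw [Nat.card_congr (Equiv.ofBijective f hbij), h2]

end Hyp

end CfsgLib.AbelianTwo
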