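import Cfsg.Agent.Lib.AbelianTwo.Principal
import Cfsg.Agent.Lib.AbelianTwo.Outer

/-!
The principal 2-block has `|P|` characters; description of its column at an involution.
-/

set_option autoImplicit false
set_option linter.unusedSectionVars false
set_option linter.style.haveILetI false

open Cfsg CfsgLib.TwoFusion CfsgLib.Involutions CfsgLib.CharTheory CfsgLib.RealChar
open scoped ComplexConjugate

namespace CfsgLib.AbelianTwo

universe u

variable {G : Type u} [Group G] [Fintype G]

local notation "θ" => Cfsg.centralizerPPrimeCore 2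
local notation "CG(" x ")" => Subgroup.centralizer ({x} : Set _)

namespace Hyp

variable {P : Sylow 2 G} (h : Hyp P)
include h

/-- The quotient `W N(P) / W P` is commutative. -/
def OuterComm : Prop :=
  ∀ a ∈ bigSub h, ∀ b ∈ bigSub h, a * b * a⁻¹ * b⁻¹ ∈ innerSub h

/-- The linear characters of `W N(P)` trivial on `W P`, other than the trivial one. -/
abbrev OuterChar : Type u :=
  {lam : bigSub h →* ℂˣ // IsOuter h lam ∧ lam ≠ 1}

theorem card_outerChar (hP : ¬ (P : Subgroup G).Normal) (hel : ∀ g ∈ (P : Subgroup G), g * g = 1)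
    (hc : OuterComm h) : Nat.card (OuterChar h) + 2 = Nat.card (P : Subgroup G) := by
  classical
  set N := (innerSub h).subgroupOf (bigSub h)
  haveI : N.Normal := h.innerSub_normal
  letI : CommGroup (bigSub h ⧸ N) :=
    { (inferInstance : Group (bigSub h ⧸ N)) with
      mul_comm := fun a b => by
        obtain ⟨a, rfl⟩ := QuotientGroup.mk_surjective a
        obtain ⟨b, rfl⟩ := QuotientGroup.mk_surjective b
        rw [← QuotientGroup.mk_mul, ← QuotientGroup.mk_mul, eq_comm, QuotientGroup.eq,
          Subgroup.mem_subgroupOf]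
        have h1 := hc _ (inv_mem a.2) _ (inv_mem b.2)
        simpa [mul_assoc] using h1 }
  haveI : HasEnoughRootsOfUnity ℂ (Monoid.exponent (bigSub h ⧸ N)) := by
    haveI : NeZero (Monoid.exponent (bigSub h ⧸ N)) := ⟨Monoid.exponent_ne_zero_of_finite⟩
    infer_instance
  have e1 := CommGroup.card_monoidHom_of_hasEnoughRootsOfUnity (bigSub h ⧸ N) ℂ
  have e2 : Nat.card (OuterChar h) = Nat.card {φ : (bigSub h ⧸ N) →* ℂˣ // φ ≠ 1} := by
    refine Nat.card_congr
      { toFun := fun l => ⟨QuotientGroup.lift N l.1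
          (fun m hm => l.2.1 m (Subgroup.mem_subgroupOf.1 hm)), fun e => l.2.2 (MonoidHom.ext fun m => by
            have := DFunLike.congr_fun e (QuotientGroup.mk m)
            exact this)⟩
        invFun := fun φ => ⟨φ.1.comp (QuotientGroup.mk' N), fun m hm => by
          rw [MonoidHom.comp_apply, QuotientGroup.mk'_apply,
            (QuotientGroup.eq_one_iff m).2 (Subgroup.mem_subgroupOf.2 hm), map_one],
          fun e => φ.2 (QuotientGroup.monoidHom_ext _ (by rw [e]; rfl))⟩
        left_inv := fun l => Subtype.ext (MonoidHom.ext fun m => rfl)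
        right_inv := fun φ => Subtype.ext (QuotientGroup.monoidHom_ext _ (MonoidHom.ext fun m => rfl)) }
  haveI : Finite ((bigSub h ⧸ N) →* ℂˣ) := Nat.finite_of_card_ne_zero (by
    rw [e1]; exact Nat.card_pos.ne')
  haveI := Fintype.ofFinite ((bigSub h ⧸ N) →* ℂˣ)
  have e3 : Nat.card {φ : (bigSub h ⧸ N) →* ℂˣ // φ ≠ 1} + 1 =
      Nat.card ((bigSub h ⧸ N) →* ℂˣ) := by
    rw [Nat.card_eq_fintype_card, Nat.card_eq_fintype_card, Fintype.card_subtype_compl,
      Fintype.card_subtype_eq]
    have : 0 < Fintype.card ((bigSub h ⧸ N) →* ℂˣ) := Fintype.card_pos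
    omega
  rw [e2, show ∀ n : ℕ, n + 2 = n + 1 + 1 from fun n => rfl, e3, e1]
  exact h.card_outer hP hel

variable {Mi : Ideal AlgInt} (hM : IsPModular 2 Mi)

/-- The irreducible character induced from an outer linear character. -/
noncomputable def inducedIrr (hP : ¬ (P : Subgroup G).Normal) (l : OuterChar h) : IrrCharacter G :=
  ⟨indFun (bigSub h) fun m => (l.1 m : ℂ), h.isIrrCharacter_induced hP l.2.1 l.2.2⟩

/-- `G` has odd index over `W N(P)`. -/
theorem odd_index : Odd (bigSub h).index := by
  haveI : Fact (Nat.Prime 2) := ⟨Nat.prime_two⟩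
  exact Nat.not_even_iff_odd.1 fun e => P.not_dvd_index ((even_iff_two_dvd.1 e).trans
    (Subgroup.index_dvd_of_le (Subgroup.le_normalizer.trans le_sup_right)))

theorem inducedIrr_apply_one (hP : ¬ (P : Subgroup G).Normal) (l : OuterChar h) :
    (h.inducedIrr hP l : G → ℂ) 1 = ((bigSub h).index : ℂ) := by
  show indFun (bigSub h) (fun m => (l.1 m : ℂ)) 1 = _
  rw [Frobenius.indFun_one]
  simp

theorem inducedIrr_apply_section (hP : ¬ (P : Subgroup G).Normal) (l : OuterChar h) {x : G}
    (hxP : x ∈ (P : Subgroup G)) (hx : orderOf x = 2) {o : G} (ho : o ∈ θ x) :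
    (h.inducedIrr hP l : G → ℂ) (x * o) = 1 := by
  have hoc := Balance.centralizerPPrimeCore_le_centralizer 2 x ho
  refine h.induced_apply hP l.2.1 (mul_mem (Subgroup.mem_sup_right hxP)
    (h.centralizer_le_innerSub hxP hx hoc)) (k := orderOf o) ?_
  have hc : Commute x o := (Subgroup.mem_centralizer_singleton_iff.1 hoc).symm
  obtain ⟨j, hj⟩ := (Signalizer.ScnThree.odd_card_theta x).of_dvd_nat
    (Subgroup.orderOf_dvd_natCard _ ho)
  rw [hc.mul_pow, pow_orderOf_eq_one, mul_one, hj, pow_succ, pow_mul, pow_two,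
    mul_self_eq_one hx, one_pow, one_mul, hx]

theorem inducedIrr_apply_self (hP : ¬ (P : Subgroup G).Normal) (l : OuterChar h) {x : G}
    (hxP : x ∈ (P : Subgroup G)) (hx : orderOf x = 2) :
    (h.inducedIrr hP l : G → ℂ) x = 1 := by
  simpa using h.inducedIrr_apply_section hP l hxP hx (one_mem _)

theorem classInner_inducedIrr_triv (hP : ¬ (P : Subgroup G).Normal) (l : OuterChar h) :
    h.inducedIrr hP l ≠ trivIrr G := by
  classical
  intro e
  haveI := Fintype.ofFinite (bigSub h)
  have h1 : classInner (indFun (bigSub h) fun m => (l.1 m : ℂ)) (fun _ => 1) = 1 := by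
    have h2 := classInner_self_of_isIrr (trivIrr G).2
    have e' : (indFun (bigSub h) fun m => (l.1 m : ℂ)) = fun _ => (1 : ℂ) :=
      congrArg Subtype.val e
    rw [e']; exact h2
  rw [Frobenius.classInner_indFun _ _ _ (fun _ _ => rfl)] at h1
  have h3 : (fun m => (l.1 m : ℂ)) ≠ fun _ : bigSub h => (1 : ℂ) := fun e' =>
    l.2.2 (MonoidHom.ext fun m => Units.ext (congrFun e' m))
  exact zero_ne_one
    ((classInner_eq_zero_of_ne (isIrrCharacter_linear l.1) (trivIrr (bigSub h)).2 h3).symm.trans h1)

/-- At most two outer linear characters induce the same character. -/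
theorem card_outerChar_le (hP : ¬ (P : Subgroup G).Normal) :
    Nat.card (OuterChar h) ≤ 2 * Nat.card (Set.range (h.inducedIrr hP)) := by
  classical
  haveI := Fintype.ofFinite (bigSub h)
  haveI : Finite (bigSub h →* ℂˣ) := Finite.of_injective
    (fun l => (⟨_, isIrrCharacter_linear l⟩ : IrrCharacter (bigSub h)))
    fun a b e => linear_inj (congrArg Subtype.val e)
  haveI := Fintype.ofFinite (OuterChar h)
  haveI := Fintype.ofFinite (Set.range (h.inducedIrr hP))
  rw [Nat.card_eq_fintype_card, Nat.card_eq_fintype_card, mul_comm, ← Finset.card_univ,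
    ← Finset.card_univ, Nat.mul_comm]
  refine Finset.card_le_mul_card_image_of_maps_to
    (f := fun l => (⟨h.inducedIrr hP l, l, rfl⟩ : Set.range (h.inducedIrr hP)))
    (fun _ _ => Finset.mem_univ _) 2 ?_
  rintro ⟨ψ, l, rfl⟩ -
  refine (Finset.card_le_card (t := ({l} : Finset (OuterChar h)) ∪
    Finset.univ.filter fun m => m.1 * l.1 = 1) fun m hm => ?_).trans
    ((Finset.card_union_le _ _).trans ?_)
  · simp only [Finset.mem_filter, Finset.mem_univ, true_and, Subtype.mk.injEq] at hm
    simp only [Finset.mem_union, Finset.mem_singleton, Finset.mem_filter, Finset.mem_univ, true_and]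
    by_contra hcon
    push Not at hcon
    have e := h.classInner_induced hP m.1 l.1 m.2.1 l.2.1 hcon.2
    rw [if_neg fun e3 => hcon.1 (Subtype.ext e3)] at e
    have e2 : classInner ((h.inducedIrr hP m : IrrCharacter G) : G → ℂ)
        ((h.inducedIrr hP l : IrrCharacter G) : G → ℂ) = 1 := by
      rw [show h.inducedIrr hP m = h.inducedIrr hP l from congrArg Subtype.val hm]
      exact classInner_self_of_isIrr (h.inducedIrr hP l).2
    exact zero_ne_one (e.symm.trans e2)
  · rw [Finset.card_singleton]
    refine Nat.add_le_add_left (Finset.card_le_one.2 fun a ha b hb => Subtype.ext ?_) 1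
    simp only [Finset.mem_filter, Finset.mem_univ, true_and] at ha hb
    ext y
    have ea := DFunLike.congr_fun ha y
    have eb := DFunLike.congr_fun hb y
    rw [MonoidHom.mul_apply, MonoidHom.one_apply] at ea eb
    rw [eq_inv_of_mul_eq_one_left ea, eq_inv_of_mul_eq_one_left eb]

include hM

theorem inducedIrr_mem (hP : ¬ (P : Subgroup G).Normal) (l : OuterChar h) :
    h.inducedIrr hP l ∈ principalBlock Mi G := by
  obtain ⟨x, hxP, hx⟩ := h.exists_involution
  haveI := Fintype.ofFinite (θ x)
  by_contra hn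
  have h1 := h.sum_core_eq_zero hM hn hxP hx
  rw [Finset.sum_congr rfl fun o _ => h.inducedIrr_apply_section hP l hxP hx o.2] at h1
  simp at h1

open scoped Classical in
/-- The column of an involution: every member of the principal block is `±1` there; apart from
the trivial and the induced characters the value is `-1` and the indicator `1`. -/
theorem column (hP : ¬ (P : Subgroup G).Normal) (hel : ∀ g ∈ (P : Subgroup G), g * g = 1)
    (hc : OuterComm h) {x : G} (hxP : x ∈ (P : Subgroup G)) (hx : orderOf x = 2) :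
    (∀ χ ∈ principalBlock Mi G, (χ : G → ℂ) x = 1 ∨ (χ : G → ℂ) x = -1) ∧
    (∀ χ ∈ principalBlock Mi G, χ ≠ trivIrr G → (∀ l, h.inducedIrr hP l ≠ χ) →
      (χ : G → ℂ) x = -1 ∧ fsIndicator (χ : G → ℂ) = 1 ∧ Odd (charDegree (χ : G → ℂ))) := by
  haveI := Blocks.isPrime_of_isPModular hM
  haveI := Fintype.ofFinite (IrrCharacter G)
  haveI : Finite (OuterChar h) := Nat.finite_of_card_ne_zero (by
    have := h.card_outerChar hP hel hc
    obtain ⟨E, hE, -, h8⟩ := h.rank
    have := Subgroup.card_le_of_le hE
    omega)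
  haveI := Fintype.ofFinite (OuterChar h)
  choose a ha using fun χ : IrrCharacter G => BlockLocal.exists_int_apply_involution χ hx
  have hv : ∀ χ : IrrCharacter G, ∃ v : ℤ, fsIndicator (χ : G → ℂ) = (v : ℂ) ∧
      (v = 0 ∨ v = 1 ∨ v = -1) := fun χ => by
    rcases (Correspondences.fsIndicator_irr_cases χ.2).1 with e | e | e
    · exact ⟨0, by simp [e]⟩
    · exact ⟨1, by simp [e]⟩
    · exact ⟨-1, by simp [e]⟩
  choose v hv hv' using hv
  set B := Finset.univ.filter fun χ : IrrCharacter G => χ ∈ principalBlock Mi G with hB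
  have hq : ∑ χ ∈ B, a χ * a χ = (Nat.card (P : Subgroup G) : ℤ) := by
    have e := h.sum_sq hM hxP hx
    rw [← Finset.sum_filter, ← hB] at e
    simp only [ha] at e
    exact_mod_cast e
  have hfs : ∑ χ ∈ B, v χ * a χ = 0 := by
    have e := h.sum_fs hM hel hxP hx
    rw [← Finset.sum_filter, ← hB] at e
    simp only [ha, hv] at e
    exact_mod_cast e
  have ha0 : ∀ χ ∈ B, a χ ≠ 0 := fun χ hχ e =>
    h.apply_ne_zero hM hP hel (Finset.mem_filter.1 hχ).2 hxP hx (by simp [ha, e])
  set ι := fun l : OuterChar h => h.inducedIrr hP l with hι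
  set I := Finset.univ.image ι with hI
  have htI : trivIrr G ∉ I := by
    simp only [hI, Finset.mem_image, not_exists, not_and]
    exact fun l _ => h.classInner_inducedIrr_triv hP l
  have hsub : insert (trivIrr G) I ⊆ B := by
    intro χ hχ
    refine Finset.mem_filter.2 ⟨Finset.mem_univ _, ?_⟩
    rcases Finset.mem_insert.1 hχ with rfl | hχ
    · exact BlockLocal.trivIrr_mem_principalBlock G
    · obtain ⟨l, -, rfl⟩ := Finset.mem_image.1 hχ
      exact h.inducedIrr_mem hM hP l
  have hat : a (trivIrr G) = 1 := by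
    have e := ha (trivIrr G); rw [trivIrr_apply] at e; exact_mod_cast e.symm
  have hvt : v (trivIrr G) = 1 := by
    have e := hv (trivIrr G)
    have e2 : fsIndicator ((trivIrr G : IrrCharacter G) : G → ℂ) = 1 := by
      show (Nat.card G : ℂ)⁻¹ * ∑ _s : G, (1 : ℂ) = 1
      rw [Finset.sum_const, Finset.card_univ, nsmul_one, ← Nat.card_eq_fintype_card]
      exact inv_mul_cancel₀ (Nat.cast_ne_zero.2 Nat.card_pos.ne')
    rw [e2] at e; exact_mod_cast e.symm
  have hai : ∀ l, a (ι l) = 1 := fun l => by
    have e := ha (ι l); rw [hι] at e ⊢; simp only at e ⊢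
    rw [h.inducedIrr_apply_self hP l hxP hx] at e; exact_mod_cast e.symm
  -- the fibres
  have hfib : ∀ ψ ∈ I,
      ((Finset.univ.filter fun l => ι l = ψ).card : ℤ) = 1 + v ψ := by
    intro ψ hψ
    obtain ⟨l, -, rfl⟩ := Finset.mem_image.1 hψ
    let l' : OuterChar h := ⟨l.1⁻¹, fun m hm => by rw [MonoidHom.inv_apply, l.2.1 m hm, inv_one],
      fun e => l.2.2 (MonoidHom.ext fun m => by
        have e1 := DFunLike.congr_fun e m
        rw [MonoidHom.inv_apply, MonoidHom.one_apply, inv_eq_one] at e1
        exact e1)⟩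
    have hll : l' ≠ l := fun e => h.outer_mul_self_ne_one l.2.1 l.2.2 (by
      have e' : l.1⁻¹ = l.1 := congrArg Subtype.val e
      nth_rewrite 1 [← e']; exact MonoidHom.ext fun m => inv_mul_cancel (l.1 m))
    have hmem : ∀ m, ι m = ι l → m = l ∨ m = l' := by
      intro m hm
      by_cases hne : m.1 * l.1 = 1
      · refine Or.inr (Subtype.ext (MonoidHom.ext fun y => ?_))
        have e1 := DFunLike.congr_fun hne y
        rw [MonoidHom.mul_apply, MonoidHom.one_apply] at e1
        exact eq_inv_of_mul_eq_one_left e1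
      · left
        haveI := Fintype.ofFinite (bigSub h)
        have e := h.classInner_induced hP m.1 l.1 m.2.1 l.2.1 hne
        have e2 : classInner ((ι m : IrrCharacter G) : G → ℂ) ((ι l : IrrCharacter G) : G → ℂ) = 1 := by
          rw [hm]; exact classInner_self_of_isIrr (ι l).2
        by_contra hml
        rw [if_neg fun e3 => hml (Subtype.ext e3)] at e
        exact zero_ne_one (e.symm.trans e2)
    have hconj : ((ι l' : IrrCharacter G) : G → ℂ) = fun g => conj (((ι l : IrrCharacter G) : G → ℂ) g) := by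
      show indFun (bigSub h) (fun m => (l'.1 m : ℂ)) =
        fun g => conj (indFun (bigSub h) (fun m => (l.1 m : ℂ)) g)
      rw [show (fun m => (l'.1 m : ℂ)) = fun m => conj ((l.1 m : ℂ)) from
        funext fun m => linear_apply_inv l.1 m]
      funext g
      simp only [indFun, map_mul, map_inv₀, map_natCast, map_sum]
      congr 1
      refine Finset.sum_congr rfl fun z _ => ?_
      by_cases hz : z⁻¹ * g * z ∈ bigSub h
      · rw [Frobenius.extendByZero_of_mem _ _ hz, Frobenius.extendByZero_of_mem _ _ hz]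
      · rw [Frobenius.extendByZero_of_not_mem _ _ hz, Frobenius.extendByZero_of_not_mem _ _ hz,
          map_zero]
    by_cases hl' : ι l' = ι l
    · have hreal : ∀ g, (((ι l : IrrCharacter G) : G → ℂ) g).im = 0 := fun g => by
        have e : conj (((ι l : IrrCharacter G) : G → ℂ) g) = ((ι l : IrrCharacter G) : G → ℂ) g := by
          rw [← congrFun hconj g, hl']
        exact Complex.conj_eq_iff_im.1 e
      have hv1 : v (ι l) = 1 := by
        have e : fsIndicator ((ι l : IrrCharacter G) : G → ℂ) = 1 :=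
          Correspondences.fsIndicator_irr_eq_one_of_odd (ι l).2
            (h.inducedIrr_apply_one hP l) h.odd_index hreal
        rw [hv] at e; exact_mod_cast e
      rw [hv1, show (Finset.univ.filter fun m => ι m = ι l) = {l, l'} from ?_,
        Finset.card_pair hll.symm]
      · norm_num
      ext m
      simp only [Finset.mem_filter, Finset.mem_univ, true_and, Finset.mem_insert,
        Finset.mem_singleton]
      exact ⟨hmem m, fun e => e.elim (fun e => e ▸ rfl) fun e => e ▸ hl'⟩
    · have hv0 : v (ι l) = 0 := by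
        by_contra hne
        have hreal := (Correspondences.fsIndicator_irr_ne_zero_iff (ι l).2).1
          (by rw [hv]; exact Int.cast_ne_zero.2 hne)
        exact hl' (Subtype.ext (by
          rw [hconj]; funext g; exact Complex.conj_eq_iff_im.2 (hreal g)))
      rw [hv0, show (Finset.univ.filter fun m => ι m = ι l) = {l} from ?_, Finset.card_singleton]
      · norm_num
      ext m
      simp only [Finset.mem_filter, Finset.mem_univ, true_and, Finset.mem_singleton]
      exact ⟨fun e => (hmem m e).resolve_right fun e2 => hl' (e2 ▸ e), fun e => e ▸ rfl⟩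
  set g := fun χ : IrrCharacter G => a χ * a χ + v χ * a χ with hg
  have hIg : ∑ ψ ∈ I, g ψ = (Nat.card (OuterChar h) : ℤ) := by
    rw [Nat.card_eq_fintype_card, ← Finset.card_univ,
      Finset.card_eq_sum_card_image ι Finset.univ, Nat.cast_sum]
    refine Finset.sum_congr rfl fun ψ hψ => ?_
    obtain ⟨l, -, rfl⟩ := Finset.mem_image.1 hψ
    rw [hfib _ hψ]; simp only [hg, hai]; ring
  have htot : ∑ χ ∈ B, g χ = (Nat.card (P : Subgroup G) : ℤ) := by
    simp only [hg, Finset.sum_add_distrib, hq, hfs, add_zero]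
  have hrest : ∑ χ ∈ B \ insert (trivIrr G) I, g χ = 0 := by
    have e := Finset.sum_sdiff (f := g) hsub
    rw [Finset.sum_insert htI, hIg, htot] at e
    have e2 : g (trivIrr G) = 2 := by simp [hg, hat, hvt]
    have e3 := h.card_outerChar hP hel hc
    omega
  have hnn : ∀ χ, 0 ≤ g χ := fun χ => by
    simp only [hg]
    rcases hv' χ with e | e | e <;> rw [e]
    · nlinarith
    · rcases le_or_gt 0 (a χ) with hs | hs <;> nlinarith
    · rcases le_or_gt (a χ) 0 with hs | hs <;> nlinarith
  have hR : ∀ χ ∈ B \ insert (trivIrr G) I, a χ = - v χ ∧ v χ ≠ 0 := fun χ hχ => by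
    have e := (Finset.sum_eq_zero_iff_of_nonneg fun χ _ => hnn χ).1 hrest χ hχ
    have h0 := ha0 χ (Finset.mem_sdiff.1 hχ).1
    simp only [hg, ← add_mul] at e
    have e2 := (mul_eq_zero.1 e).resolve_right h0
    exact ⟨by omega, fun e3 => h0 (by omega)⟩
  have hrest' : ∀ χ ∈ principalBlock Mi G, χ ≠ trivIrr G → (∀ l, h.inducedIrr hP l ≠ χ) →
      (χ : G → ℂ) x = -1 ∧ fsIndicator (χ : G → ℂ) = 1 ∧ Odd (charDegree (χ : G → ℂ)) := by
    intro χ hχ ht hI'
    have hm : χ ∈ B \ insert (trivIrr G) I := by
      simp only [Finset.mem_sdiff, hB, hI, Finset.mem_filter, Finset.mem_univ, true_and,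
        Finset.mem_insert, Finset.mem_image, not_or, not_exists, hι]
      exact ⟨hχ, ht, fun l => hI' l⟩
    obtain ⟨e1, e2⟩ := hR χ hm
    have hodd : Odd (charDegree (χ : G → ℂ)) := by
      have hd := h.degree_congr hM hP hel χ hxP hx (ha χ)
      have h2 : (2 : ℤ) ∣ (Nat.card (P : Subgroup G) : ℤ) := by
        exact_mod_cast (hx ▸ Subgroup.orderOf_dvd_natCard _ hxP)
      have h3 := h2.trans hd
      rcases hv' χ with e | e | e
      · exact absurd e e2
      all_goals rw [Nat.odd_iff]; omega
    have hreal := (Correspondences.fsIndicator_irr_ne_zero_iff χ.2).1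
      (by rw [hv]; exact Int.cast_ne_zero.2 e2)
    have hv1 := Correspondences.fsIndicator_irr_eq_one_of_odd χ.2
      (Blocks.charDegree_cast χ).symm hodd hreal
    refine ⟨?_, hv1, hodd⟩
    rw [hv] at hv1
    rw [ha, e1, show v χ = 1 by exact_mod_cast hv1]
    simp
  refine ⟨fun χ hχ => ?_, hrest'⟩
  by_cases ht : χ = trivIrr G
  · subst ht; exact Or.inl (trivIrr_apply x)
  by_cases hI' : ∀ l, h.inducedIrr hP l ≠ χ
  · exact Or.inr (hrest' χ hχ ht hI').1
  · push Not at hI'
    obtain ⟨l, rfl⟩ := hI'
    exact Or.inl (h.inducedIrr_apply_self hP l hxP hx)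

/-- The principal 2-block has as many characters as `P` has elements. -/
theorem card_principalBlock (hP : ¬ (P : Subgroup G).Normal)
    (hel : ∀ g ∈ (P : Subgroup G), g * g = 1) (hc : OuterComm h) :
    Nat.card (principalBlock Mi G) = Nat.card (P : Subgroup G) := by
  classical
  haveI := Fintype.ofFinite (IrrCharacter G)
  obtain ⟨x, hxP, hx⟩ := h.exists_involution
  have h1 := h.sum_sq hM hxP hx
  rw [← Finset.sum_filter, Finset.sum_congr rfl (g := fun _ => (1 : ℂ)) (fun χ hχ => by
    rcases (h.column hM hP hel hc hxP hx).1 χ (Finset.mem_filter.1 hχ).2 with e | e <;> rw [e] <;>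
      norm_num), Finset.sum_const, nsmul_one] at h1
  rw [← Nat.cast_inj (R := ℂ), ← h1]
  congr 1
  exact Nat.subtype_card _ (fun χ => by simp)

end Hyp

end CfsgLib.AbelianTwo
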