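import Cfsg.Agent.Lib.BlockSections.ExceptionalInvolution
import Cfsg.Agent.Lib.BlockLocal.WeakOrth

/-!
Class sums of an involution against the sections of the elements of a Sylow subgroup with
fixed-point-free normalizer action, and their exceptional part.
-/

set_option autoImplicit false
set_option linter.unusedSectionVars false
set_option linter.style.haveILetI false

namespace CfsgLib.AbelianTwo

open Cfsg CfsgLib.CharTheory CfsgLib.Blocks CfsgLib.BrauerCharacters CfsgLib.BlockSections
  CfsgLib.BlockSections.Exceptional Finset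
open scoped ComplexConjugate

variable {G : Type*} [Group G] [Fintype G] {p : ℕ} [hp : Fact p.Prime] {P : Sylow p G} {m : ℕ}
  (hF : IsFrobSylow P m) {M : Ideal AlgInt} [M.IsPrime] (hM : IsPModular p M)
include hF hM

open scoped Classical in
/-- The class sum identity on the section of `y`, projected on the principal block. -/
theorem sum_involution_pairs {t y : G} [Fintype (Subgroup.centralizer ({y} : Set G))]
    (ht : t * t = 1) (hy : y ∈ (P : Subgroup G)) (h1 : y ≠ 1) :
    ∑ s : Subgroup.centralizer ({y} : Set G), (if p ∣ orderOf s then (0 : ℂ) else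
        ((univ.filter fun x : G => IsConj t x ∧
          IsConj t (x * ((cenElem y * s : Subgroup.centralizer ({y} : Set G)) : G))).card : ℂ)) =
      ((Subgroup.centralizer ({t} : Set G)).index : ℂ) ^ 2 / (Nat.card G : ℂ) *
        ((univ.filter fun s : Subgroup.centralizer ({y} : Set G) => ¬ p ∣ orderOf s).card : ℂ) *
        ∑ χ ∈ blockFinset (principalBlock M G),
          (χ : G → ℂ) t ^ 2 / (χ : G → ℂ) 1 * (χ : G → ℂ) y := by
  haveI := Fintype.ofFinite (IrrCharacter G)
  set I := ((Subgroup.centralizer ({t} : Set G)).index : ℂ)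
  have hye := isPElem hF hM hy
  have hz : ∀ s : (Subgroup.centralizer ({y} : Set G)), ((univ.filter fun x : G => IsConj t x ∧
      IsConj t (x * ((cenElem y * s : (Subgroup.centralizer ({y} : Set G))) : G))).card : ℂ) = I ^ 2 / (Nat.card G : ℂ) *
      ∑ χ : IrrCharacter G, (χ : G → ℂ) t ^ 2 / (χ : G → ℂ) 1 *
        (χ : G → ℂ) ((cenElem y * s : (Subgroup.centralizer ({y} : Set G))) : G) := by
    intro s
    set z := ((cenElem y * s : (Subgroup.centralizer ({y} : Set G))) : G)
    have hk := sum_weight_pairs t t (fun u : G => if u = z then (1 : ℂ) else 0)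
    rw [sum_eq_single z (fun u _ hu => by rw [if_neg hu, zero_mul]) (by simp), if_pos rfl, one_mul]
      at hk
    simp only [ite_mul, one_mul, zero_mul, sum_ite_eq', mem_univ, if_true] at hk
    refine Eq.trans (Eq.trans ?_ hk) ?_
    · congr 2
      ext x
      simp
    rw [mul_sum, mul_sum]
    refine sum_congr rfl fun χ _ => ?_
    rw [centralChar_apply, conj_apply_involution χ ht]
    ring
  have hsum : ∀ χ : IrrCharacter G, ∑ s : (Subgroup.centralizer ({y} : Set G)), (if p ∣ orderOf s then 0 else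
      (χ : G → ℂ) ((cenElem y * s : (Subgroup.centralizer ({y} : Set G))) : G)) =
      if χ ∈ principalBlock M G then
        ((univ.filter fun s : (Subgroup.centralizer ({y} : Set G)) => ¬ p ∣ orderOf s).card : ℂ) * (χ : G → ℂ) y else 0 := by
    intro χ
    split_ifs with hχ
    · rw [← nsmul_eq_mul, ← sum_const, sum_filter]
      refine sum_congr rfl fun s _ => ?_
      by_cases hs : p ∣ orderOf s
      · rw [if_pos hs, if_neg (not_not.2 hs)]
      · rw [if_neg hs, if_pos hs]
        exact apply_section hF hM hχ (isPPart_coe hye hs) hy h1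
    · have hind := isInducedBlock_principal (M := M) y hye hM
      have h := contrib_eq_sum_apply y hM hind.1 χ (trivIrr G)
      rw [contrib_eq_zero_of_notMem y hM hye hind hχ, eq_comm, mul_eq_zero] at h
      refine Eq.trans (sum_congr rfl fun s _ => ?_)
        (h.resolve_left (inv_ne_zero (Nat.cast_ne_zero.2 Nat.card_pos.ne')))
      by_cases hs : p ∣ orderOf s
      · rw [if_pos hs, if_pos hs]
      · rw [if_neg hs, if_neg hs, ← apply_eq_secPart_principal y hye hM
          (show trivIrr G ∈ principalBlock M G from sameBlock_refl _) hs,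
          trivIrr_apply, map_one, mul_one]
  calc _ = ∑ s : (Subgroup.centralizer ({y} : Set G)), I ^ 2 / (Nat.card G : ℂ) * ∑ χ : IrrCharacter G,
        (χ : G → ℂ) t ^ 2 / (χ : G → ℂ) 1 *
          (if p ∣ orderOf s then 0 else (χ : G → ℂ) ((cenElem y * s : (Subgroup.centralizer ({y} : Set G))) : G)) := by
        refine sum_congr (by ext; simp) fun s _ => ?_
        split_ifs with hs
        · simp
        · exact hz s
    _ = I ^ 2 / (Nat.card G : ℂ) * ∑ χ : IrrCharacter G, if χ ∈ principalBlock M G then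
          ((univ.filter fun s : (Subgroup.centralizer ({y} : Set G)) => ¬ p ∣ orderOf s).card : ℂ) *
            ((χ : G → ℂ) t ^ 2 / (χ : G → ℂ) 1 * (χ : G → ℂ) y) else 0 := by
        rw [← mul_sum, sum_comm]
        congr 1
        refine sum_congr rfl fun χ _ => ?_
        rw [← mul_sum, hsum]
        split_ifs <;> ring
    _ = _ := by
        rw [← sum_filter, ← mul_sum, ← mul_assoc]
        rw [show (univ.filter fun χ : IrrCharacter G => χ ∈ principalBlock M G) =
          blockFinset (principalBlock M G) from Finset.ext fun χ => by simp [mem_blockFinset]]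

open scoped Classical in
/-- The exceptional part of the class sum at `t` and `y`. -/
theorem finsum_exceptional (D : ExcData p M P m) (hd : D.d = 0) {t y : (P : Subgroup G)}
    (ht1 : t ≠ 1) (hy : y ≠ 1) {E : ℂ} (hE : ∀ η ∈ D.Y, (η : G → ℂ) 1 = E) :
    ∑ᶠ χ ∈ D.Y, (χ : G → ℂ) t ^ 2 / (χ : G → ℂ) 1 * (χ : G → ℂ) y =
      (D.δ : ℂ) / E * ((Nat.card (P : Subgroup G) : ℂ) *
        ((univ.filter fun ab : autP P × autP P => (ab.1 : MulAut (P : Subgroup G)) t *
          (ab.2 : MulAut (P : Subgroup G)) t * y = 1).card : ℂ) - (m : ℂ) ^ 2) := by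
  haveI := hF.comm
  letI : CommGroup (P : Subgroup G) := { mul_comm := mul_comm' }
  haveI := Fintype.ofFinite ((P : Subgroup G) →* ℂˣ)
  have ht' : (t : G) ≠ 1 := fun e => ht1 (Subtype.ext e)
  have hy' : (y : G) ≠ 1 := fun e => hy (Subtype.ext e)
  have hfib : ∀ ψ : (P : Subgroup G) →* ℂˣ, ψ ≠ 1 →
      (D.ζ ψ : G → ℂ) t = (D.δ : ℂ) * ∑ α : autP P,
        ((ψ ((α : MulAut (P : Subgroup G)) t) : ℂˣ) : ℂ) := by
    intro ψ hψ
    rw [D.val_Y ψ hψ t t (isPPart_self hF hM t.2) ht', hd, Int.cast_zero, zero_add]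
    congr 1
    have hset : {ψ' | NRel P ψ ψ'} = Set.range fun α : autP P =>
        ψ.comp (α : MulAut (P : Subgroup G)).toMonoidHom := by
      ext ψ'
      constructor
      · rintro ⟨α, hα, he⟩
        refine ⟨⟨α⁻¹, inv_mem hα⟩, ?_⟩
        rw [← he]
        exact MonoidHom.ext fun u => congrArg ψ' (α.apply_symm_apply u)
      · rintro ⟨α, rfl⟩
        exact ⟨(α : MulAut (P : Subgroup G))⁻¹, inv_mem α.2, MonoidHom.ext fun u =>
          congrArg ψ ((α : MulAut (P : Subgroup G)).apply_symm_apply u)⟩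
    rw [hset, finsum_mem_range fun α β e => Subtype.ext (autP_eq_of_nRel hF α.2 β.2 hψ e),
      finsum_eq_sum_of_fintype]
    rfl
  set Φ : ((P : Subgroup G) →* ℂˣ) → ℂ := fun ψ =>
    (∑ α : autP P, (ψ ((α : MulAut (P : Subgroup G)) t) : ℂ)) ^ 2 * (ψ y : ℂ) with hΦ
  have hstep : ∀ η ∈ D.Y.toFinite.toFinset,
      (η : G → ℂ) t ^ 2 / (η : G → ℂ) 1 * (η : G → ℂ) y = (D.δ : ℂ) / E *
        ∑ ψ ∈ (univ.erase (1 : (P : Subgroup G) →* ℂˣ)).filter (fun ψ => D.ζ ψ = η), Φ ψ := by
    intro η hη
    have hη' : η ∈ D.Y := by simpa using hη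
    obtain ⟨ψ₀, hψ₀, rfl⟩ := D.ζ_surj η hη'
    have hcongr : ∀ ψ ∈ (univ.erase (1 : (P : Subgroup G) →* ℂˣ)).filter
        (fun ψ => D.ζ ψ = D.ζ ψ₀), Φ ψ = (D.ζ ψ₀ : G → ℂ) t ^ 2 * (ψ y : ℂ) := by
      intro ψ hψ
      simp only [mem_filter, mem_erase, mem_univ, and_true] at hψ
      rw [← hψ.2, hfib ψ hψ.1]
      simp only [hΦ]
      rcases D.sign with e | e <;> rw [e] <;> push_cast <;> ring
    rw [sum_congr rfl hcongr, ← mul_sum, hE _ hη', D.val_Y ψ₀ hψ₀ y y (isPPart_self hF hM y.2) hy',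
      hd, Int.cast_zero, zero_add, finsum_mem_eq_finite_toFinset_sum _ (Set.toFinite _),
      sum_congr (s₂ := (univ.erase (1 : (P : Subgroup G) →* ℂˣ)).filter (fun ψ => D.ζ ψ = D.ζ ψ₀))
        (Finset.ext fun x => ?_) fun _ _ => rfl]
    · ring
    · simp only [mem_filter, mem_erase, mem_univ, and_true, Set.Finite.mem_toFinset,
        Set.mem_ofPred_eq]
      refine ⟨fun h => ?_, fun h => (D.ζ_eq ψ₀ x hψ₀ h.1).1 h.2⟩
      have hx1 : x ≠ 1 := by
        obtain ⟨α, -, hα⟩ := h
        rintro rfl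
        exact hψ₀ (hα.symm.trans (MonoidHom.ext fun _ => rfl))
      exact ⟨hx1, (D.ζ_eq ψ₀ x hψ₀ hx1).2 h⟩
  rw [finsum_mem_eq_finite_toFinset_sum _ D.Y.toFinite, sum_congr rfl hstep, ← mul_sum,
    sum_fiberwise_of_maps_to (fun ψ hψ => by simpa using D.ζ_mem ψ (mem_erase.1 hψ).1)]
  congr 1
  have htot : ∑ ψ : (P : Subgroup G) →* ℂˣ, Φ ψ = (Nat.card (P : Subgroup G) : ℂ) *
      ((univ.filter fun ab : autP P × autP P => (ab.1 : MulAut (P : Subgroup G)) t *
        (ab.2 : MulAut (P : Subgroup G)) t * y = 1).card : ℂ) := by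
    rw [card_filter, Nat.cast_sum, mul_sum, Fintype.sum_prod_type]
    simp only [hΦ, pow_two, sum_mul_sum]
    simp only [sum_mul]
    rw [sum_comm]
    refine sum_congr rfl fun α _ => ?_
    rw [sum_comm]
    refine sum_congr rfl fun β _ => ?_
    rw [sum_congr rfl (g := fun ψ : (P : Subgroup G) →* ℂˣ =>
      ((ψ ((α : MulAut (P : Subgroup G)) t * (β : MulAut (P : Subgroup G)) t * y) : ℂˣ) : ℂ))
      (fun ψ _ => by rw [map_mul, map_mul, Units.val_mul, Units.val_mul]), sum_hom_apply]
    split_ifs <;> simp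
  rw [← add_sum_erase _ _ (mem_univ (1 : (P : Subgroup G) →* ℂˣ))] at htot
  have h1 : Φ 1 = (m : ℂ) ^ 2 := by
    simp only [hΦ, MonoidHom.one_apply, Units.val_one, sum_const, card_univ, nsmul_eq_mul, mul_one,
      ← Nat.card_eq_fintype_card, card_autP hF]
  rw [h1] at htot
  linear_combination htot

end CfsgLib.AbelianTwo
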