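import Cfsg.Agent.Lib.AbelianTwo.HomocyclicGroup
import Cfsg.Agent.Lib.AbelianTwo.HomocyclicBlock
import Cfsg.Agent.Lib.Blocks.Knorr

/-!
An abelian Sylow 2-subgroup of rank at least three with a strongly embedded `W N(P)` is
elementary abelian: the principal block columns of an element of order four and of an involution
contradict the index of `W N(P)`.
-/

set_option autoImplicit false
set_option linter.unusedSectionVars false
set_option linter.style.haveILetI false

open Cfsg CfsgLib.CharTheory CfsgLib.Blocks CfsgLib.BrauerCharacters CfsgLib.BlockSections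
  CfsgLib.BlockSections.Exceptional CfsgLib.TwoFusion Finset
open scoped ComplexConjugate

namespace CfsgLib.AbelianTwo

variable {G : Type*} [Group G] [Finite G]

local notation "θ" => Cfsg.centralizerPPrimeCore 2
local notation "CG(" x ")" => Subgroup.centralizer ({x} : Set _)

theorem natCard_subtype_conj {x : G} {Q : G → Prop} (c : G) (hQ : ∀ a, Q (c * a * c⁻¹) ↔ Q a)
    {f : {a : G × G // Q (a.1 * a.2) ∧ IsConj x a.1 ∧ IsConj x a.2} → G}
    (hf : ∀ a b : {a : G × G // Q (a.1 * a.2) ∧ IsConj x a.1 ∧ IsConj x a.2},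
      (b : G × G) = (c * (a : G × G).1 * c⁻¹, c * (a : G × G).2 * c⁻¹) →
      f b = c * f a * c⁻¹) (v : G) :
    Nat.card {a // f a = v} = Nat.card {a // f a = c * v * c⁻¹} := by
  have hconj : ∀ a, IsConj x (c * a * c⁻¹) ↔ IsConj x a := fun a =>
    ⟨fun e => e.trans (isConj_iff.2 ⟨c⁻¹, by group⟩), fun e => e.trans (isConj_iff.2 ⟨c, rfl⟩)⟩
  have hiff : ∀ a : G × G, (Q (a.1 * a.2) ∧ IsConj x a.1 ∧ IsConj x a.2) ↔
      (Q ((((MulAut.conj c).toEquiv.prodCongr (MulAut.conj c).toEquiv) a).1 *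
        (((MulAut.conj c).toEquiv.prodCongr (MulAut.conj c).toEquiv) a).2) ∧
      IsConj x (((MulAut.conj c).toEquiv.prodCongr (MulAut.conj c).toEquiv) a).1 ∧
      IsConj x (((MulAut.conj c).toEquiv.prodCongr (MulAut.conj c).toEquiv) a).2) := fun a => by
    show _ ↔ Q (c * a.1 * c⁻¹ * (c * a.2 * c⁻¹)) ∧ IsConj x (c * a.1 * c⁻¹) ∧
      IsConj x (c * a.2 * c⁻¹)
    rw [conj_mul, hQ, hconj, hconj]
  refine Nat.card_congr (Equiv.subtypeEquiv
    (Equiv.subtypeEquiv ((MulAut.conj c).toEquiv.prodCongr (MulAut.conj c).toEquiv) hiff)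
    fun a => ?_)
  rw [show f (Equiv.subtypeEquiv ((MulAut.conj c).toEquiv.prodCongr (MulAut.conj c).toEquiv)
    hiff a) = c * f a * c⁻¹ from hf a _ rfl]
  exact ⟨fun e => by rw [e], fun e => mul_left_cancel (mul_right_cancel e)⟩

open scoped Classical in
/-- Pairs of conjugates of `x` over the section of `x`, counted by their second member. -/
theorem sum_section_pairs [Fintype G] (x : G) [Fintype CG(x)] (hx : ∃ k : ℕ, orderOf x = 2 ^ k)
    (hx2 : x * x = 1) :
    ∑ s : CG(x), (if 2 ∣ orderOf s then (0 : ℂ) else ((univ.filter fun t : G => IsConj x t ∧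
        IsConj x (t * ((cenElem x * s : Subgroup.centralizer ({x} : Set G)) : G))).card : ℂ)) =
      (Nat.card {t : G // IsConj x t ∧ ∃ v, IsPPart 2 (t * x) v ∧ IsConj x v} : ℂ) := by
  haveI : Fact (Nat.Prime 2) := ⟨Nat.prime_two⟩
  have hsq : ∀ t, IsConj x t → t * t = 1 := by
    intro t ht
    obtain ⟨g, rfl⟩ := isConj_iff.1 ht
    rw [conj_mul, hx2, mul_one, mul_inv_cancel]
  let Q : G → Prop := fun g => ∃ v, IsPPart 2 g v ∧ IsConj x v
  have hQ : ∀ c a : G, Q (c * a * c⁻¹) ↔ Q a := by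
    intro c a
    constructor
    · rintro ⟨v, hv, hxv⟩
      refine ⟨c⁻¹ * v * c, ?_, hxv.trans (isConj_iff.2 ⟨c⁻¹, by group⟩)⟩
      simpa [mul_assoc] using IsPPart.conj hv c⁻¹
    · rintro ⟨v, hv, hxv⟩
      exact ⟨_, IsPPart.conj hv c, hxv.trans (isConj_iff.2 ⟨c, rfl⟩)⟩
  let A := {a : G × G // Q (a.1 * a.2) ∧ IsConj x a.1 ∧ IsConj x a.2}
  let V := {v : G // IsConj x v}
  let x0 : V := ⟨x, IsConj.refl x⟩
  let f : A → G := fun a => a.2.1.choose
  have hf : ∀ a : A, IsPPart 2 ((a : G × G).1 * (a : G × G).2) (f a) ∧ IsConj x (f a) :=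
    fun a => a.2.1.choose_spec
  let g : A → G := fun a => (a : G × G).2
  -- both maps are equivariant
  have hconst : ∀ (k : A → G) (hk : ∀ a, IsConj x (k a)), (∀ (c : G) (a b : A),
      (b : G × G) = (c * (a : G × G).1 * c⁻¹, c * (a : G × G).2 * c⁻¹) → k b = c * k a * c⁻¹) →
      Nat.card A = Nat.card V * Nat.card {a // k a = x} := by
    intro k hk he
    have h1 := card_eq_mul_fibre (fun a => (⟨k a, hk a⟩ : V)) x0 fun v => by
      obtain ⟨c, hc⟩ := isConj_iff.1 v.2
      have e : ∀ w : V, Nat.card {a // (⟨k a, hk a⟩ : V) = w} = Nat.card {a // k a = w.1} :=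
        fun w => Nat.card_congr (Equiv.subtypeEquivRight fun a => Subtype.ext_iff)
      rw [e, e, natCard_subtype_conj (Q := Q) c (hQ c) (he c) x0.1]
      show Nat.card {a // k a = v.1} = Nat.card {a // k a = c * x * c⁻¹}
      rw [hc]
    rw [h1]
    congr 1
    exact Nat.card_congr (Equiv.subtypeEquivRight fun a => Subtype.ext_iff)
  have hA1 := hconst f (fun a => (hf a).2) fun c a b e => IsPPart.unique (hf b).1 (by
    rw [e]
    show IsPPart 2 (c * (a : G × G).1 * c⁻¹ * (c * (a : G × G).2 * c⁻¹)) _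
    rw [conj_mul]
    exact IsPPart.conj (hf a).1 c)
  have hA2 := hconst g (fun a => a.2.2.2) fun c a b e => by simp only [g]; rw [e]
  have heq : Nat.card {a : A // f a = x} = Nat.card {a : A // g a = x} :=
    Nat.eq_of_mul_eq_mul_left (Nat.card_pos_iff.2 ⟨⟨x0⟩, inferInstance⟩) (hA1.symm.trans hA2)
  have hB : Nat.card {a : A // g a = x} =
      Nat.card {t : G // IsConj x t ∧ ∃ v, IsPPart 2 (t * x) v ∧ IsConj x v} := by
    refine Nat.card_congr
      { toFun := fun a => ⟨(a.1 : G × G).1, a.1.2.2.1, by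
          have h1 := a.1.2.1
          have h2 : (a.1 : G × G).2 = x := a.2
          rw [h2] at h1
          exact h1⟩
        invFun := fun t => ⟨⟨((t : G), x), t.2.2, t.2.1, IsConj.refl x⟩, rfl⟩
        left_inv := fun a => Subtype.ext (Subtype.ext (Prod.ext rfl a.2.symm))
        right_inv := fun t => rfl }
  rw [← hB, ← heq]
  let S := fun s : CG(x) => univ.filter fun t : G => IsConj x t ∧
      IsConj x (t * ((cenElem x * s : Subgroup.centralizer ({x} : Set G)) : G))
  have hsum : ∑ s : CG(x), (if 2 ∣ orderOf s then (0 : ℂ) else ((S s).card : ℂ)) =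
      ((((univ.filter fun s : CG(x) => ¬ 2 ∣ orderOf s).sigma S).card : ℕ) : ℂ) := by
    rw [card_sigma, Nat.cast_sum, sum_filter]
    exact sum_congr rfl fun s _ => by
      by_cases hs : 2 ∣ orderOf s
      · rw [if_pos hs, if_neg (not_not.2 hs)]
      · rw [if_neg hs, if_pos hs]
  rw [hsum, ← Fintype.card_coe, ← Nat.card_eq_fintype_card]
  norm_cast
  have key : ∀ (s : CG(x)) (t : G), IsConj x t →
      t * (t * ((cenElem x * s : Subgroup.centralizer ({x} : Set G)) : G)) =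
        ((cenElem x * s : Subgroup.centralizer ({x} : Set G)) : G) := fun s t ht => by
    rw [← mul_assoc, hsq t ht, one_mul]
  have hmem : ∀ q : ((univ.filter fun s : CG(x) => ¬ 2 ∣ orderOf s).sigma S),
      ¬ 2 ∣ orderOf q.1.1 ∧ IsConj x q.1.2 ∧
        IsConj x (q.1.2 * ((cenElem x * q.1.1 : Subgroup.centralizer ({x} : Set G)) : G)) :=
    fun q => by
      have h := mem_sigma.1 q.2
      exact ⟨(mem_filter.1 h.1).2, (mem_filter.1 h.2).2⟩
  refine Nat.card_congr (Equiv.ofBijective (fun q =>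
    (⟨⟨(q.1.2, q.1.2 * ((cenElem x * q.1.1 : Subgroup.centralizer ({x} : Set G)) : G)),
      ⟨x, by rw [key _ _ (hmem q).2.1]; exact isPPart_coe hx (hmem q).1, IsConj.refl x⟩,
      (hmem q).2⟩, IsPPart.unique (hf _).1
        (by rw [key _ _ (hmem q).2.1]; exact isPPart_coe hx (hmem q).1)⟩ :
      {a : A // f a = x})) ⟨?_, ?_⟩)
  · intro q r e
    have e1 := congrArg (fun a : {a : A // f a = x} => (a.1 : G × G)) e
    simp only [Prod.mk.injEq] at e1
    obtain ⟨e2, e3⟩ := e1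
    rw [e2] at e3
    have e4 : q.1.1 = r.1.1 := mul_left_cancel (Subtype.ext (mul_left_cancel e3))
    exact Subtype.ext (Sigma.ext e4 (heq_of_eq e2))
  · rintro ⟨⟨⟨t, t'⟩, hQt, ht, ht'⟩, hfx⟩
    have h1 := (hf ⟨(t, t'), hQt, ht, ht'⟩).1
    rw [hfx] at h1
    obtain ⟨s, hs, hxs, -, hso⟩ := h1
    have hs' : s ∈ CG(x) := Subgroup.mem_centralizer_singleton_iff.2 hxs.eq.symm
    have ht'e : t * ((cenElem x * ⟨s, hs'⟩ : Subgroup.centralizer ({x} : Set G)) : G) = t' := by
      show t * (x * s) = t'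
      rw [hs]
      show t * (t * t') = t'
      rw [← mul_assoc, hsq t ht, one_mul]
    refine ⟨⟨⟨⟨s, hs'⟩, t⟩, mem_sigma.2 ⟨mem_filter.2 ⟨mem_univ _, by rwa [Subgroup.orderOf_mk]⟩,
      mem_filter.2 ⟨mem_univ _, ht, by rw [ht'e]; exact ht'⟩⟩⟩, ?_⟩
    exact Subtype.ext (Subtype.ext (Prod.ext rfl ht'e))

/-- The final estimate. -/
theorem false_of_bounds {ι : Type*} (s : Finset ι) (a : ι → ℤ) (deg : ι → ℕ) {e q m : ℕ}
    (he : 7 ≤ e) (hq : (e + 1) * (e + 1) ≤ q) (hm : q < m) (i0 : ι) (hi0 : i0 ∈ s)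
    (ha0 : a i0 = 1) (hd0 : deg i0 = 1) (hsq : ∑ i ∈ s, a i ^ 2 = (e : ℤ))
    (hpos : ∀ i ∈ s, 0 < deg i) (hdvd : ∀ i ∈ s, (q : ℤ) ∣ (deg i : ℤ) - a i)
    (hT : ∑ i ∈ s, (a i : ℂ) ^ 3 / (deg i : ℂ) = (e : ℂ) / (m : ℂ)) : False := by
  classical
  have hTR : ∑ i ∈ s, (a i : ℝ) ^ 3 / (deg i : ℝ) = (e : ℝ) / (m : ℝ) := by
    apply Complex.ofReal_injective
    push_cast
    exact hT
  rw [← add_sum_erase _ _ hi0, ha0] at hsq
  rw [← add_sum_erase _ _ hi0, ha0, hd0] at hTR
  have hrest : ∑ i ∈ s.erase i0, a i ^ 2 = (e : ℤ) - 1 := by linarith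
  have hqZ : ((e : ℤ) + 1) * ((e : ℤ) + 1) ≤ q := by exact_mod_cast hq
  set D : ℝ := (q : ℝ) - e + 1 with hD
  have hqR : ((e : ℝ) + 1) * ((e : ℝ) + 1) ≤ q := by exact_mod_cast hq
  have heR : (7 : ℝ) ≤ e := by exact_mod_cast he
  have hD0 : 0 < D := by rw [hD]; nlinarith
  have hterm : ∀ i ∈ s.erase i0,
      -((e : ℝ) - 1) / D * (a i : ℝ) ^ 2 ≤ (a i : ℝ) ^ 3 / (deg i : ℝ) := by
    intro i hi
    have his := (mem_erase.1 hi).2
    have hdp : (0 : ℝ) < deg i := Nat.cast_pos.2 (hpos i his)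
    rcases le_or_gt 0 (a i) with hp | hn
    · have hp' : (0 : ℝ) ≤ a i := by exact_mod_cast hp
      have h1 : -((e : ℝ) - 1) / D * (a i : ℝ) ^ 2 ≤ 0 :=
        mul_nonpos_of_nonpos_of_nonneg (div_nonpos_of_nonpos_of_nonneg (by linarith) hD0.le)
          (sq_nonneg _)
      exact h1.trans (by positivity)
    · have hsmall : -a i ≤ (e : ℤ) - 1 := by
        have h1 := single_le_sum (f := fun i => a i ^ 2) (fun j _ => sq_nonneg (a j)) hi
        rw [hrest] at h1
        nlinarith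
      have hbig : (q : ℤ) - (-a i) ≤ deg i := by
        have h1 := Int.le_of_dvd (by have := hpos i his; omega) (hdvd i his)
        linarith
      have hsmallR : -(a i : ℝ) ≤ (e : ℝ) - 1 := by exact_mod_cast hsmall
      have hbigR : (q : ℝ) - (-(a i : ℝ)) ≤ (deg i : ℝ) := by exact_mod_cast hbig
      have hle : -(a i : ℝ) / (deg i : ℝ) ≤ ((e : ℝ) - 1) / D := by
        rw [div_le_div_iff₀ hdp hD0]
        have : D ≤ (deg i : ℝ) := by rw [hD]; linarith
        exact mul_le_mul hsmallR this hD0.le (by linarith)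
      calc -((e : ℝ) - 1) / D * (a i : ℝ) ^ 2 = -(((e : ℝ) - 1) / D * (a i : ℝ) ^ 2) := by ring
        _ ≤ -(-(a i : ℝ) / (deg i : ℝ) * (a i : ℝ) ^ 2) :=
          neg_le_neg (mul_le_mul_of_nonneg_right hle (sq_nonneg _))
        _ = _ := by ring
  have hlow := sum_le_sum hterm
  rw [← mul_sum, show ∑ i ∈ s.erase i0, (a i : ℝ) ^ 2 = (e : ℝ) - 1 by exact_mod_cast hrest] at hlow
  have hmR : (q : ℝ) + 1 ≤ m := by exact_mod_cast hm
  have hm0 : (0 : ℝ) < m := by linarith
  have hfin : 1 - ((e : ℝ) - 1) ^ 2 / D ≤ (e : ℝ) / m := by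
    rw [← hTR]
    calc 1 - ((e : ℝ) - 1) ^ 2 / D = 1 + -((e : ℝ) - 1) / D * ((e : ℝ) - 1) := by ring
      _ ≤ _ := by simpa using add_le_add_left hlow 1
  rw [sub_le_iff_le_add, div_add_div _ _ hm0.ne' hD0.ne', le_div_iff₀ (mul_pos hm0 hD0), one_mul]
    at hfin
  set k : ℝ := (e : ℝ) - 1 with hk
  have hDk : k ^ 2 + 3 * e + 1 ≤ D := by rw [hD, hk]; nlinarith
  have h1 : (D + e) * (D - k ^ 2) ≤ e * D := by
    have : (D + e) * (D - k ^ 2) ≤ (m : ℝ) * (D - k ^ 2) :=
      mul_le_mul_of_nonneg_right (by rw [hD]; linarith) (by linarith)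
    nlinarith
  nlinarith [mul_le_mul hDk (show 3 * (e : ℝ) + 1 ≤ D - k ^ 2 by linarith) (by linarith) hD0.le,
    sq_nonneg k]

namespace Hyp

variable {P : Sylow 2 G} (h : Hyp P)
include h

/-- `P` has exponent two unless it is normal. -/
theorem false_of_exponent (hP : ¬ (P : Subgroup G).Normal) {u : G} (hu : u ∈ (P : Subgroup G))
    (hu2 : u * u ≠ 1) : False := by
  classical
  haveI : Fact (Nat.Prime 2) := ⟨Nat.prime_two⟩
  haveI := Fintype.ofFinite G
  obtain ⟨x, hxP, hx⟩ := h.exists_involution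
  haveI := Fintype.ofFinite CG(x)
  have hx2 := Involutions.mul_self_eq_one hx
  have hx1 : x ≠ 1 := (Involutions.orderOf_eq_two_iff.1 hx).2
  have hu1 : u ≠ 1 := fun e => hu2 (by rw [e, one_mul])
  obtain ⟨J, hJ⟩ := exists_isPModular_of_prime Nat.prime_two
  haveI := isPrime_of_isPModular hJ
  have hF := h.isFrobSylow
  set e := autOrder P with hedef
  set q := Nat.card (P : Subgroup G) with hqdef
  have he := h.seven_le_autOrder hP
  have hq : (e + 1) * (e + 1) ≤ q := h.sq_le_card hP hu hu2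
  obtain ⟨D⟩ := exists_excData hF hJ (by omega) (by nlinarith)
  -- no shift
  have hone : ¬ 2 ∣ orderOf (1 : G) := by rw [orderOf_one]; decide
  have hXf : ∀ {A : Type} [AddCommMonoid A] (f : IrrCharacter G → A),
      ∑ᶠ χ ∈ D.X, f χ = ∑ χ ∈ D.X.toFinite.toFinset, f χ := fun f =>
    finsum_mem_eq_finite_toFinset_sum _ _
  set Xf := D.X.toFinite.toFinset with hXfdef
  have htrivX : trivIrr G ∈ Xf := by simpa [hXfdef] using D.triv
  have hd : D.d = 0 := by
    by_contra hd
    have hn := D.norm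
    rw [hXf] at hn
    have h1 := single_le_sum (f := fun χ => D.a χ ^ 2) (fun χ _ => sq_nonneg (D.a χ)) htrivX
    simp only [D.a_triv, one_pow] at h1
    have hy := D.card_Y
    have hY : (e : ℤ) + 2 ≤ Nat.card D.Y := by
      have : e + 2 ≤ Nat.card D.Y := by
        by_contra hlt
        have := Nat.mul_le_mul_right e (show Nat.card D.Y ≤ e + 1 by omega)
        nlinarith
      exact_mod_cast this
    have hd2 : 1 ≤ D.d ^ 2 := pow_two_pos_of_ne_zero hd
    nlinarith [sq_nonneg (D.d - D.δ)]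
  have hδ2 : D.δ * D.δ = 1 := by rcases D.sign with e | e <;> rw [e] <;> norm_num
  have hsq : ∑ χ ∈ Xf, D.a χ ^ 2 = (e : ℤ) := by
    have := D.norm
    rw [hXf, hd] at this
    linarith [show (0 - D.δ) ^ 2 = 1 by rw [zero_sub, neg_sq, pow_two, hδ2]]
  -- the common exceptional degree
  obtain ⟨η₀, hη₀⟩ : D.Y.Nonempty :=
    Set.nonempty_coe_sort.1 (Nat.card_pos_iff.1 (by have := D.two_le; omega)).1
  set E : ℂ := (charDegree (η₀ : G → ℂ) : ℂ) with hEdef
  have hE0 : E ≠ 0 := Nat.cast_ne_zero.2 (charDegree_spec η₀).2.1.ne'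
  have hE : ∀ η ∈ D.Y, (η : G → ℂ) 1 = E := fun η hη => by
    rw [D.agree η hη η₀ hη₀ 1 hone, (charDegree_spec η₀).1]
  have hval : ∀ χ ∈ D.X, ∀ v : G, v ∈ (P : Subgroup G) → v ≠ 1 → (χ : G → ℂ) v = (D.a χ : ℂ) :=
    fun χ hχ v hv hv1 => D.val_X χ hχ v v (isPPart_self hF hJ hv) hv hv1
  set T := ∑ χ ∈ Xf, (D.a χ : ℂ) ^ 3 / (charDegree (χ : G → ℂ) : ℂ) with hTdef
  have hsplit : ∀ {v : G} (hv : v ∈ (P : Subgroup G)) (hv1 : v ≠ 1),
      ∑ χ ∈ blockFinset (principalBlock J G), (χ : G → ℂ) x ^ 2 / (χ : G → ℂ) 1 * (χ : G → ℂ) v =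
        T + (D.δ : ℂ) / E * ((q : ℂ) * ((univ.filter fun ab : autP P × autP P =>
          (ab.1 : MulAut (P : Subgroup G)) ⟨x, hxP⟩ * (ab.2 : MulAut (P : Subgroup G)) ⟨x, hxP⟩ *
            ⟨v, hv⟩ = 1).card : ℂ) - (e : ℂ) ^ 2) := by
    intro v hv hv1
    rw [sum_split hJ D, hXf, ← finsum_exceptional hF hJ D hd (t := ⟨x, hxP⟩) (y := ⟨v, hv⟩)
      (fun e => hx1 (congrArg Subtype.val e)) (fun e => hv1 (congrArg Subtype.val e)) hE]
    congr 1
    refine sum_congr rfl fun χ hχ => ?_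
    have hχ' : χ ∈ D.X := by simpa [hXfdef] using hχ
    rw [hval χ hχ' x hxP hx1, hval χ hχ' v hv hv1, (charDegree_spec χ).1]
    ring
  -- the element of order at least four
  have hT : T = (e : ℂ) ^ 2 * (D.δ : ℂ) / E := by
    have hno : ∀ t z : G, IsPPart 2 z u → IsConj x t → ¬ IsConj x (t * z) := by
      intro t z hz ht htz
      exact hu2 (h.mul_self_of_inverted hP (h.exists_pow_orderOf hu)
        (conj_inv_of_pairs hF hx2 hz ht htz).2)
    have h0 := sum_involution_eq_zero hF hJ hx2 hu hu1 hno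
    rw [hsplit hu hu1, filter_eq_empty_iff.2, card_empty, Nat.cast_zero, mul_zero, zero_sub] at h0
    · linear_combination h0
    rintro ⟨α, β⟩ - hab
    have hsq1 : ∀ γ : autP P, (γ : MulAut (P : Subgroup G)) ⟨x, hxP⟩ *
        (γ : MulAut (P : Subgroup G)) ⟨x, hxP⟩ = 1 := fun γ => by
      rw [← map_mul, show (⟨x, hxP⟩ : (P : Subgroup G)) * ⟨x, hxP⟩ = 1 from Subtype.ext hx2,
        map_one]
    haveI := hF.comm
    refine hu2 (congrArg (fun z : (P : Subgroup G) => (z : G))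
      (show (⟨u, hu⟩ : (P : Subgroup G)) * ⟨u, hu⟩ = 1 from ?_))
    rw [← inv_eq_of_mul_eq_one_right hab, ← mul_inv_rev, inv_eq_one]
    calc _ = ((α : MulAut (P : Subgroup G)) ⟨x, hxP⟩ * (α : MulAut (P : Subgroup G)) ⟨x, hxP⟩) *
        ((β : MulAut (P : Subgroup G)) ⟨x, hxP⟩ * (β : MulAut (P : Subgroup G)) ⟨x, hxP⟩) := by
          rw [mul_assoc, mul_assoc, ← mul_assoc ((β : MulAut (P : Subgroup G)) ⟨x, hxP⟩),
            mul_comm' ((β : MulAut (P : Subgroup G)) ⟨x, hxP⟩)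
              ((α : MulAut (P : Subgroup G)) ⟨x, hxP⟩), mul_assoc]
      _ = 1 := by rw [hsq1, hsq1, one_mul]
  -- the pairs at `x`
  have hpairs : (univ.filter fun ab : autP P × autP P =>
      (ab.1 : MulAut (P : Subgroup G)) ⟨x, hxP⟩ * (ab.2 : MulAut (P : Subgroup G)) ⟨x, hxP⟩ *
        ⟨x, hxP⟩ = 1).card = e - 1 := by
    haveI := hF.comm
    set x₀ : (P : Subgroup G) := ⟨x, hxP⟩
    have hx₀ : x₀ * x₀ = 1 := Subtype.ext hx2
    have hx₀1 : x₀ ≠ 1 := fun e => hx1 (congrArg Subtype.val e)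
    have hinv : ∀ γ : autP P, ((γ : MulAut (P : Subgroup G)) x₀)⁻¹ =
        (γ : MulAut (P : Subgroup G)) x₀ := fun γ =>
      inv_eq_of_mul_eq_one_right (by rw [← map_mul, hx₀, map_one])
    have hc : (univ.erase (1 : autP P)).card = e - 1 := by
      rw [card_erase_of_mem (mem_univ _), card_univ, ← Nat.card_eq_fintype_card, card_autP hF]
    rw [← hc]
    refine card_bij (fun ab _ => ab.1) ?_ ?_ ?_
    · rintro ⟨α, β⟩ hab
      refine mem_erase.2 ⟨fun e1 => ?_, mem_univ _⟩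
      have := (mem_filter.1 hab).2
      simp only at e1
      rw [e1, Subgroup.coe_one, MulAut.one_apply, mul_comm' x₀, mul_assoc, hx₀, mul_one] at this
      exact hx₀1 ((MulEquiv.map_eq_one_iff _).1 this)
    · rintro ⟨α, β⟩ hab ⟨α', β'⟩ hab' (rfl : α = α')
      have h1 := (mem_filter.1 hab).2
      have h2 := (mem_filter.1 hab').2
      simp only at h1 h2
      have := mul_left_cancel (mul_right_cancel (h1.trans h2.symm))
      exact Prod.ext rfl (Subtype.ext (eq_of_autP_apply hF β.2 β'.2 hx₀1 this))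
    · intro α hα
      have hne : (α : MulAut (P : Subgroup G)) x₀ * x₀ ≠ 1 := by
        intro e1
        refine (mem_erase.1 hα).1 (Subtype.ext (autP_free hF α.2 hx₀1 ?_))
        rw [mul_eq_one_iff_eq_inv] at e1
        rw [e1, inv_eq_of_mul_eq_one_right hx₀]
      set z := (α : MulAut (P : Subgroup G)) x₀ * x₀
      have hz : orderOf (z : G) = 2 := by
        rw [Subgroup.orderOf_coe]
        refine Involutions.orderOf_eq_two_iff.2 ⟨?_, hne⟩
        rw [mul_eq_one_iff_eq_inv, mul_inv_rev, hinv, inv_eq_of_mul_eq_one_right hx₀, mul_comm']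
      obtain ⟨β, hβ, hb⟩ := (isConj_iff_autP hF (y := x₀) (y' := z)).1
        (isConj_involutions (h.stronglyEmbedded hP) hx hz)
      refine ⟨(α, ⟨β, hβ⟩), mem_filter.2 ⟨mem_univ _, ?_⟩, rfl⟩
      show (α : MulAut (P : Subgroup G)) x₀ * β x₀ * x₀ = 1
      rw [hb, mul_assoc, show z * x₀ = (α : MulAut (P : Subgroup G)) x₀ by
        rw [mul_assoc, hx₀, mul_one], ← map_mul, hx₀, map_one]
  -- the count at `x`
  set W := coreClosure h
  set mM := (bigSub h).index with hmdef
  have hθ : ((univ.filter fun s : CG(x) => ¬ 2 ∣ orderOf s).card) = Nat.card (θ x) := by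
    rw [← Fintype.card_subtype, ← Nat.card_eq_fintype_card]
    have hmem : ∀ s : CG(x), ¬ 2 ∣ orderOf s ↔ (s : G) ∈ θ x := fun s => by
      rw [← even_iff_two_dvd, Nat.not_even_iff_odd]
      refine ⟨fun ho => h.nilp x hx s s.2 (by rwa [Subgroup.orderOf_coe]), fun hs => ?_⟩
      rw [← Subgroup.orderOf_coe]
      exact (Signalizer.ScnThree.odd_card_theta x).of_dvd_nat (Subgroup.orderOf_dvd_natCard _ hs)
    exact Nat.card_congr
      { toFun := fun s => ⟨(s.1 : G), (hmem s.1).1 s.2⟩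
        invFun := fun v => ⟨⟨v, Balance.centralizerPPrimeCore_le_centralizer 2 x v.2⟩,
          (hmem _).2 v.2⟩
        left_inv := fun s => rfl
        right_inv := fun v => rfl }
  have hBcount : Nat.card {t : G // IsConj x t ∧ ∃ v, IsPPart 2 (t * x) v ∧ IsConj x v} =
      Nat.card {t : G // orderOf t = 2 ∧ t ∈ bigSub h ∧ t * x ∉ W} := by
    refine Nat.card_congr (Equiv.subtypeEquivRight fun t => ?_)
    have hxM : x ∈ bigSub h := Subgroup.mem_sup_right (Subgroup.le_normalizer hxP)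
    have hSE := h.stronglyEmbedded hP
    constructor
    · rintro ⟨ht, v, hv, hxv⟩
      have ht2 : orderOf t = 2 := by
        obtain ⟨c, rfl⟩ := isConj_iff.1 ht; rw [Involutions.orderOf_conj, hx]
      have hv2 : orderOf v = 2 := by
        obtain ⟨c, rfl⟩ := isConj_iff.1 hxv; rw [Involutions.orderOf_conj, hx]
      have htt := Involutions.mul_self_eq_one ht2
      have hcomm : ∀ a : G, a * (t * x) * a⁻¹ = (t * x)⁻¹ → Commute a v := fun a ha => by
        have h1 := IsPPart.conj hv a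
        rw [ha] at h1
        have := IsPPart.unique h1 (IsPPart.inv hv)
        rw [Involutions.inv_eq_self hv2] at this
        exact mul_inv_eq_iff_eq_mul.1 this
      have hvx : Commute x v := hcomm x (by
        rw [mul_inv_rev, Involutions.inv_eq_self ht2, mul_assoc, mul_assoc, mul_inv_cancel, mul_one,
          Involutions.inv_eq_self hx])
      have hvt : Commute t v := hcomm t (by
        rw [mul_inv_rev, Involutions.inv_eq_self ht2, ← mul_assoc, htt, one_mul,
          Involutions.inv_eq_self hx])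
      have hvM : v ∈ bigSub h := Involutions.centralizer_le_of_stronglyEmbedded hSE hxM hx
        (Subgroup.mem_centralizer_singleton_iff.2 hvx.eq.symm)
      refine ⟨ht2, Involutions.centralizer_le_of_stronglyEmbedded hSE hvM hv2
        (Subgroup.mem_centralizer_singleton_iff.2 hvt.eq), fun hW => ?_⟩
      have hv1 : v = 1 := (isPPart_eq_one_iff hv).2 (by
        rw [← even_iff_two_dvd, Nat.not_even_iff_odd]
        exact h.odd_coreClosure.of_dvd_nat (Subgroup.orderOf_dvd_natCard _ hW))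
      rw [hv1, orderOf_one] at hv2
      omega
    · rintro ⟨ht2, htM, hW⟩
      refine ⟨isConj_involutions hSE hx ht2, ?_⟩
      obtain ⟨v, hv⟩ := exists_isPPart 2 (t * x)
      have hpow : ∃ k : ℕ, orderOf v = 2 ^ k := by obtain ⟨-, -, -, hk, -⟩ := id hv; exact hk
      have hinv : t * v * t⁻¹ = v⁻¹ := by
        refine IsPPart.unique (IsPPart.conj hv t) ?_
        have e1 : t * (t * x) * t⁻¹ = (t * x)⁻¹ := by
          rw [mul_inv_rev, Involutions.inv_eq_self hx, Involutions.inv_eq_self ht2, ← mul_assoc t t,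
            Involutions.mul_self_eq_one ht2, one_mul]
        rw [e1]
        exact IsPPart.inv hv
      have hv1 : v ≠ 1 := fun e1 => hW (h.mem_coreClosure_of_odd
        (mul_mem (h.mem_innerSub_of_involution htM ht2) (Subgroup.mem_sup_right hxP))
        (by rw [← Nat.not_even_iff_odd, even_iff_two_dvd]; exact (isPPart_eq_one_iff hv).1 e1))
      exact ⟨v, hv, isConj_involutions hSE hx
        (Involutions.orderOf_eq_two_iff.2 ⟨h.mul_self_of_inverted hP hpow hinv, hv1⟩)⟩
  have hrel : (e : ℂ) * (mM : ℂ) = (D.δ : ℂ) * E := by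
    have hid := sum_involution_pairs hF hJ hx2 hxP hx1
    rw [sum_section_pairs x (h.exists_pow_orderOf hxP) hx2, hBcount, hθ, hsplit hxP hx1,
      hpairs, hT] at hid
    set N := Nat.card {t : G // orderOf t = 2 ∧ t ∈ bigSub h ∧ t * x ∉ W}
    have hN : (N : ℂ) * (Nat.card (θ x) : ℂ) = ((e : ℂ) - 1) * (Nat.card W : ℂ) := by
      have := congrArg (Nat.cast (R := ℂ)) (h.card_off_coset hP hxP hx)
      rw [Nat.cast_mul, Nat.cast_mul, Nat.cast_sub (by omega), Nat.cast_one] at this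
      exact this
    have hG : (Nat.card G : ℂ) = (Nat.card W : ℂ) * q * e * mM := by
      rw [← Subgroup.card_mul_index (bigSub h), h.card_bigSub]
      push_cast
      ring
    have hI : ((CG(x) : Subgroup G).index : ℂ) * ((Nat.card (θ x) : ℂ) * q) = (Nat.card G : ℂ) := by
      rw [← Subgroup.index_mul_card (CG(x) : Subgroup G), h.card_centralizer hxP hx]
      push_cast
      rfl
    have hW0 : (Nat.card W : ℂ) ≠ 0 := Nat.cast_ne_zero.2 Nat.card_pos.ne'
    have hq0 : (q : ℂ) ≠ 0 := Nat.cast_ne_zero.2 Nat.card_pos.ne'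
    have he1 : (e : ℂ) - 1 ≠ 0 := by
      rw [sub_ne_zero, ← Nat.cast_one, Ne, Nat.cast_inj]; omega
    have hG0 : (Nat.card G : ℂ) ≠ 0 := Nat.cast_ne_zero.2 Nat.card_pos.ne'
    have hδC : (D.δ : ℂ) * D.δ = 1 := by exact_mod_cast hδ2
    rw [Nat.cast_sub (show 1 ≤ e by omega), Nat.cast_one] at hid
    have h1 : (N : ℂ) * (Nat.card (θ x) : ℂ) * ((Nat.card G : ℂ) * E * q) =
        (((CG(x) : Subgroup G).index : ℂ) * ((Nat.card (θ x) : ℂ) * q)) ^ 2 * D.δ * ((e : ℂ) - 1) := by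
      rw [hid]
      field_simp
      ring
    rw [hN, hI] at h1
    have h2 : ((Nat.card W : ℂ) * q) * E = (Nat.card G : ℂ) * D.δ := by
      refine mul_left_cancel₀ (mul_ne_zero he1 hG0) ?_
      linear_combination h1
    rw [hG] at h2
    have h3 : E = (e : ℂ) * mM * D.δ := by
      refine mul_left_cancel₀ (mul_ne_zero hW0 hq0) ?_
      linear_combination h2
    rw [h3]
    linear_combination -(e : ℂ) * mM * hδC
  -- the estimate
  refine false_of_bounds Xf D.a (fun χ => charDegree (χ : G → ℂ)) he hq (h.card_lt_index hP)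
    (trivIrr G) htrivX D.a_triv ?_ hsq (fun χ _ => (charDegree_spec χ).2.1)
    (fun χ hχ => D.dvd χ (by simpa [hXfdef] using hχ)) ?_
  · have h1 := (charDegree_spec (trivIrr G)).1
    rw [trivIrr_apply] at h1
    exact_mod_cast h1.symm
  · show T = _
    rw [hT]
    have hm0 : (mM : ℂ) ≠ 0 := Nat.cast_ne_zero.2 Subgroup.index_ne_zero_of_finite
    have hδC : (D.δ : ℂ) * D.δ = 1 := by exact_mod_cast hδ2
    rw [← hmdef, div_eq_div_iff hE0 hm0]
    linear_combination (e : ℂ) * (D.δ : ℂ) * hrel + (e : ℂ) * E * hδC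

/-- The exponent of `P` is two. -/
theorem mul_self_eq_one_of_not_normal (hP : ¬ (P : Subgroup G).Normal) {u : G}
    (hu : u ∈ (P : Subgroup G)) : u * u = 1 :=
  by_contra fun e => h.false_of_exponent hP hu e

end Hyp

end CfsgLib.AbelianTwo
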