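import Cfsg.Agent.Lib.AbelianTwo.Setup
import Cfsg.Agent.Lib.TwoFusion.StrongEmbed
import Cfsg.Agent.Lib.Involutions.Counting
import Cfsg.Agent.Lib.Frobenius.Induce
import Cfsg.Agent.Lib.CharTheory.Decomp
import Cfsg.Agent.Lib.CharTheory.Linear

/-!
Counting swapping involutions shows that the characters induced from the non-trivial linear
characters of `W N(P)` over `W P` are irreducible.
-/

set_option autoImplicit false
set_option linter.unusedSectionVars false
set_option linter.style.haveILetI false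

open Cfsg CfsgLib.TwoFusion CfsgLib.Involutions
open scoped ComplexConjugate

namespace CfsgLib.AbelianTwo

variable {G : Type*} [Group G] [Finite G]

local notation "θ" => Cfsg.centralizerPPrimeCore 2
local notation "CG(" x ")" => Subgroup.centralizer ({x} : Set _)

/-- A product of two involutions commuting with a third one and inverted by one of them while the
two fix different points of a strongly embedded subgroup is trivial. -/
theorem mul_eq_one_of_commute {M : Subgroup G} (hM : IsStronglyEmbedded M) {x u u' : G}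
    (hx : orderOf x = 2) (hxM : x ∈ M) (hu : orderOf u = 2) (hu' : orderOf u' = 2) (huM : u ∉ M)
    (hc : x * (u * u') = u * u' * x) (ho : Odd (orderOf (u * u'))) : u * u' = 1 := by
  have hodd : Odd (orderOf (x * u)) := by
    refine odd_orderOf_mul (H := M) hM hx hu (x := ((1 : G) : G ⧸ M)) ?_ ?_
    · rw [smul_mk_eq_iff]; simpa using hxM
    · rw [ne_eq, smul_mk_eq_iff]; simpa using huM
  set k := u * u' with hk
  have hu1 := Involutions.mul_self_eq_one hu
  have hu2 := Involutions.mul_self_eq_one hu'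
  have hx1 := Involutions.mul_self_eq_one hx
  have hstep : ∀ n : ℕ, (x * u) ^ (2 * n + 1) * k = k⁻¹ * (x * u) ^ (2 * n + 1) := by
    have e : (x * u) * k = k⁻¹ * (x * u) := by
      have h2 : u * k = k⁻¹ * u := by
        rw [hk, mul_inv_rev, Involutions.inv_eq_self hu, Involutions.inv_eq_self hu', ← mul_assoc,
          hu1, one_mul, mul_assoc, hu1, mul_one]
      have h3 : x * k⁻¹ = k⁻¹ * x := ((show Commute x k from hc).inv_right).eq
      rw [mul_assoc, h2, ← mul_assoc, h3, mul_assoc]
    have e' : (x * u) * k⁻¹ = k * (x * u) := by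
      calc (x * u) * k⁻¹ = k * (k⁻¹ * (x * u)) * k⁻¹ := by group
        _ = k * ((x * u) * k) * k⁻¹ := by rw [e]
        _ = k * (x * u) := by group
    intro n
    induction n with
    | zero => simpa using e
    | succ n ih =>
      rw [show 2 * (n + 1) + 1 = 2 * n + 1 + 2 by ring, pow_add, mul_assoc, pow_two, mul_assoc, e,
        ← mul_assoc (x * u) k⁻¹, e', mul_assoc k, ← mul_assoc, ih, mul_assoc]
  obtain ⟨m, hm⟩ := hodd
  have h1 := hstep m
  rw [← hm, pow_orderOf_eq_one, one_mul, mul_one] at h1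
  have h2 : k ^ 2 = 1 := by rw [pow_two]; nth_rewrite 1 [h1]; exact inv_mul_cancel k
  have h3 := orderOf_dvd_of_pow_eq_one h2
  rcases (Nat.dvd_prime Nat.prime_two).1 h3 with h4 | h4
  · exact orderOf_eq_one_iff.1 h4
  · rw [h4] at ho; exact absurd ho (by decide)

/-- The conjugate of a value of a linear character. -/
theorem linear_apply_inv {A : Type*} [Group A] [Finite A] (l : A →* ℂˣ) (a : A) :
    (((l a)⁻¹ : ℂˣ) : ℂ) = conj ((l a : ℂˣ) : ℂ) := by
  haveI := Fintype.ofFinite A
  rw [← map_inv]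
  exact CharTheory.IsIrrCharacter.inv (CharTheory.isIrrCharacter_linear l) a

namespace Hyp

variable {P : Sylow 2 G} (h : Hyp P)
include h

theorem isConj_in_bigSub (hP : ¬ (P : Subgroup G).Normal) {t s : G} (ht : t ∈ bigSub h)
    (ht2 : orderOf t = 2) (hs : s ∈ bigSub h) (hs2 : orderOf s = 2) :
    ∃ g ∈ bigSub h, g * t * g⁻¹ = s := by
  obtain ⟨g, hg⟩ := isConj_iff.1 (isConj_involutions (h.stronglyEmbedded hP) ht2 hs2)
  exact ⟨g, Involutions.mem_of_conj_mem_of_stronglyEmbedded (h.stronglyEmbedded hP) ht ht2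
    (hg.symm ▸ hs), hg⟩

/-- The number of involutions of `W N(P)`. -/
theorem card_involutions_mul (hP : ¬ (P : Subgroup G).Normal) {x : G} (hxP : x ∈ (P : Subgroup G))
    (hx : orderOf x = 2) :
    Nat.card {t : G // orderOf t = 2 ∧ t ∈ bigSub h} * Nat.card CG(x) = Nat.card (bigSub h) := by
  set M := bigSub h
  have hxM : x ∈ M := Subgroup.mem_sup_right (Subgroup.le_normalizer hxP)
  have h1 := Involutions.card_isConj_mul_card_centralizer (G := M) ⟨x, hxM⟩
  have hC : CG(x) ≤ M := (h.centralizer_le_innerSub hxP hx).trans h.innerSub_le_bigSub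
  have h2 : Nat.card CG((⟨x, hxM⟩ : M)) = Nat.card CG(x) :=
    Nat.card_congr
      { toFun := fun c => ⟨((c : M) : G), Subgroup.mem_centralizer_singleton_iff.2
          (congrArg Subtype.val (Subgroup.mem_centralizer_singleton_iff.1 c.2))⟩
        invFun := fun c => ⟨⟨c, hC c.2⟩, Subgroup.mem_centralizer_singleton_iff.2
          (Subtype.ext (Subgroup.mem_centralizer_singleton_iff.1 c.2))⟩
        left_inv := fun c => rfl
        right_inv := fun c => rfl }
  have h3 : Nat.card {g : M // IsConj ⟨x, hxM⟩ g} =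
      Nat.card {t : G // orderOf t = 2 ∧ t ∈ M} :=
    Nat.card_congr
      { toFun := fun g => ⟨((g : M) : G), by
          obtain ⟨c, hc⟩ := isConj_iff.1 g.2
          rw [← hc, Subgroup.coe_mul, Subgroup.coe_mul, Subgroup.coe_inv, orderOf_conj]
          exact hx, g.1.2⟩
        invFun := fun t => ⟨⟨t, t.2.2⟩, by
          obtain ⟨g, hg, hge⟩ := h.isConj_in_bigSub hP hxM hx t.2.2 t.2.1
          exact isConj_iff.2 ⟨⟨g, hg⟩, Subtype.ext hge⟩⟩
        left_inv := fun g => rfl
        right_inv := fun t => rfl }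
  rw [← h2, ← h3, h1]

/-- Every coset of `W P` in `W N(P)` contains an element inverted by a given involution outside. -/
theorem exists_inverted (hP : ¬ (P : Subgroup G).Normal) {t a : G} (ht : orderOf t = 2)
    (htM : t ∉ bigSub h) (ha : a ∈ bigSub h) :
    ∃ k ∈ bigSub h, t * k * t = k⁻¹ ∧ k⁻¹ * a ∈ innerSub h := by
  classical
  have hSE := h.stronglyEmbedded hP
  obtain ⟨x, hxP, hx⟩ := h.exists_involution
  set M := bigSub h with hMdef
  set N := (innerSub h).subgroupOf M with hN
  set W := coreClosure h with hW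
  have hxM : x ∈ M := Subgroup.mem_sup_right (Subgroup.le_normalizer hxP)
  have htt := Involutions.mul_self_eq_one ht
  let U := {u : G // orderOf u = 2 ∧ t * u ∈ M}
  let f : U → M ⧸ N := fun u => QuotientGroup.mk ⟨t * u.1, u.2.2⟩
  have hUcard : Nat.card U = Nat.card {s : G // orderOf s = 2 ∧ s ∈ M} := by
    have hy : ((1 : G) : G ⧸ M) ≠ (t : G ⧸ M) := by
      rw [ne_eq, QuotientGroup.eq]; simpa using htM
    refine Eq.trans ?_ ((card_swappingInvolutions hSE hy).trans ?_)
    · refine Nat.card_congr (Equiv.subtypeEquivRight fun u => ?_)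
      refine and_congr_right fun hu => ?_
      rw [MulAction.Quotient.smul_mk, QuotientGroup.eq, smul_eq_mul, mul_one,
        ← inv_mem_iff (x := u⁻¹ * t), mul_inv_rev, inv_inv, Involutions.inv_eq_self ht]
    · refine Nat.card_congr (Equiv.subtypeEquivRight fun u => ?_)
      refine and_congr_right fun hu => ?_
      rw [smul_mk_eq_iff]; simp
  have hUM : ∀ u : U, u.1 ∉ M := fun u hu => htM (by
    have := mul_mem u.2.2 hu
    rwa [mul_assoc, Involutions.mul_self_eq_one u.2.1, mul_one] at this)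
  -- products of swapping involutions have odd order
  have hprod : ∀ u u' : U, Odd (orderOf (u.1 * u'.1)) := by
    intro u u'
    have e : u.1 * u'.1 = (t * u.1)⁻¹ * (t * u'.1) := by
      rw [mul_inv_rev, Involutions.inv_eq_self u.2.1, Involutions.inv_eq_self ht, mul_assoc,
        ← mul_assoc t t, htt, one_mul]
    have h1 : u.1 * u'.1 ∈ M := e ▸ mul_mem (inv_mem u.2.2) u'.2.2
    have h2 : t⁻¹ * (u.1 * u'.1) * t ∈ M := by
      have : t⁻¹ * (u.1 * u'.1) * t = (t * u.1) * (t * u'.1)⁻¹ := by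
        rw [mul_inv_rev, Involutions.inv_eq_self u'.2.1, Involutions.inv_eq_self ht]; group
      rw [this]
      exact mul_mem u.2.2 (inv_mem u'.2.2)
    refine (hSE.2.2 t htM).of_dvd_nat (Subgroup.orderOf_dvd_natCard _ ?_)
    exact ⟨h1, Involutions.mem_map_conj.2 h2⟩
  have hfW : ∀ u u' : U, f u = f u' → u.1 * u'.1 ∈ W := by
    intro u u' e
    refine h.mem_coreClosure_of_odd ?_ (hprod u u')
    have e1 := Subgroup.mem_subgroupOf.1 (QuotientGroup.eq.1 e)
    simp only [Subgroup.coe_mul, Subgroup.coe_inv, mul_inv_rev, Involutions.inv_eq_self u.2.1,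
      Involutions.inv_eq_self ht] at e1
    rwa [mul_assoc, ← mul_assoc t t, htt, one_mul] at e1
  let rep : Set.range f → U := fun q => q.2.choose
  have hrep : ∀ q, f (rep q) = q.1 := fun q => q.2.choose_spec
  let F : U × θ x → Set.range f × W := fun a =>
    (⟨f a.1, a.1, rfl⟩, ⟨(rep ⟨f a.1, a.1, rfl⟩).1 * a.1.1 * a.2.1,
      mul_mem (hfW _ _ (hrep _))
        ((h.coreClosure_inf hxP hx).ge a.2.2).1⟩)
  have hF : Function.Injective F := by
    rintro ⟨u, o⟩ ⟨u', o'⟩ e
    simp only [F, Prod.mk.injEq] at e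
    obtain ⟨e1, e2⟩ := e
    replace e2 := congrArg Subtype.val e2
    simp only at e2
    have hr : (rep ⟨f u', u', rfl⟩) = rep ⟨f u, u, rfl⟩ :=
      congrArg rep e1.symm
    rw [hr, mul_assoc, mul_assoc, mul_right_inj] at e2
    have e3 : u.1 * u'.1 = o.1 * o'.1⁻¹ := by
      calc u.1 * u'.1 = u.1 * (u'.1 * o'.1) * o'.1⁻¹ := by group
        _ = u.1 * (u.1 * o.1) * o'.1⁻¹ := by rw [e2]
        _ = o.1 * o'.1⁻¹ := by rw [← mul_assoc, Involutions.mul_self_eq_one u.2.1, one_mul]
    have hoc : u.1 * u'.1 ∈ CG(x) := Balance.centralizerPPrimeCore_le_centralizer 2 x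
      (e3 ▸ mul_mem o.2 (inv_mem o'.2))
    have e4 := mul_eq_one_of_commute hSE hx hxM u.2.1 u'.2.1 (hUM u)
      (Subgroup.mem_centralizer_singleton_iff.1 hoc).symm (hprod u u')
    have e5 : u = u' := Subtype.ext (by
      rw [mul_eq_one_iff_eq_inv, Involutions.inv_eq_self u'.2.1] at e4; exact e4)
    subst e5
    exact Prod.ext rfl (Subtype.ext (mul_left_cancel e2))
  have hle : Nat.card U * Nat.card (θ x) ≤ Nat.card (Set.range f) * Nat.card W := by
    simpa [Nat.card_prod] using Nat.card_le_card_of_injective F hF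
  have hcount : Nat.card U * Nat.card (θ x) = Nat.card (M ⧸ N) * Nat.card W := by
    have e1 := h.card_involutions_mul hP hxP hx
    rw [← hUcard, h.card_centralizer hxP hx, ← mul_assoc,
      Subgroup.card_eq_card_quotient_mul_card_subgroup N,
      Nat.card_congr (Subgroup.subgroupOfEquivOfLe h.innerSub_le_bigSub).toEquiv,
      h.card_innerSub, ← mul_assoc] at e1
    exact Nat.eq_of_mul_eq_mul_right Nat.card_pos e1
  rw [hcount] at hle
  have hsurj : Set.range f = Set.univ := by
    refine Set.eq_univ_of_forall fun q => ?_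
    by_contra hq
    have h1 : Nat.card (Set.range f) < Nat.card (M ⧸ N) := by
      rw [Nat.card_coe_set_eq, ← Set.ncard_univ]
      exact Set.ncard_lt_ncard ((Set.ssubset_univ_iff).2 fun e => hq (e ▸ Set.mem_univ q))
    exact absurd (Nat.le_of_mul_le_mul_right hle Nat.card_pos) (not_le.2 h1)
  obtain ⟨u, hu⟩ := hsurj.ge (Set.mem_univ (QuotientGroup.mk ⟨a, ha⟩ : M ⧸ N))
  refine ⟨t * u.1, u.2.2, ?_, ?_⟩
  · rw [mul_inv_rev, Involutions.inv_eq_self u.2.1, Involutions.inv_eq_self ht, ← mul_assoc t t,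
      htt, one_mul]
  · simpa using Subgroup.mem_subgroupOf.1 (QuotientGroup.eq.1 hu)

/-- A linear character of `W N(P)` trivial on `W P`. -/
def IsOuter (lam : bigSub h →* ℂˣ) : Prop :=
  ∀ m : bigSub h, (m : G) ∈ innerSub h → lam m = 1

variable [Fintype G]

open scoped Classical in
theorem classInner_induced (hP : ¬ (P : Subgroup G).Normal) (lam mu : bigSub h →* ℂˣ)
    (hl : IsOuter h lam) (hm : IsOuter h mu) (hne : lam * mu ≠ 1) :
    classInner (indFun (bigSub h) fun m => (lam m : ℂ)) (indFun (bigSub h) fun m => (mu m : ℂ)) =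
      if lam = mu then 1 else 0 := by
  classical
  haveI := Fintype.ofFinite (bigSub h)
  have hSE := h.stronglyEmbedded hP
  rw [Frobenius.classInner_indFun (bigSub h) _ _ (Frobenius.indFun_isClassFunction (bigSub h) _)]
  simp only [classInner, indFun, map_mul, map_inv₀, map_natCast, map_sum, Finset.mul_sum]
  rw [Finset.sum_comm]
  set c := ((Nat.card (bigSub h) : ℕ) : ℂ) with hc
  have hc0 : c ≠ 0 := by rw [hc]; exact Nat.cast_ne_zero.2 Nat.card_pos.ne'
  have hout : ∀ g : G, g ∉ (bigSub h) →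
      ∑ m : (bigSub h), (lam m : ℂ) * conj (extendByZero (bigSub h) (fun n => (mu n : ℂ)) (g⁻¹ * (m : G) * g)) = 0 := by
    intro g hg
    have hy : ((1 : G) : G ⧸ (bigSub h)) ≠ (g : G ⧸ (bigSub h)) := by rw [ne_eq, QuotientGroup.eq]; simpa using hg
    obtain ⟨s, hs⟩ := (fixingInvolutions_nonempty hSE ((1 : G) : G ⧸ (bigSub h)))
    obtain ⟨s', hs'⟩ := (fixingInvolutions_nonempty hSE (g : G ⧸ (bigSub h)))
    obtain ⟨t, ⟨ht, htg⟩, -⟩ := exists_swap hSE hy hs hs'
    rw [MulAction.Quotient.smul_mk, QuotientGroup.eq, smul_eq_mul, mul_one] at htg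
    have htM : t ∉ (bigSub h) := fun e => hg (by
      have := mul_mem e htg; rwa [mul_inv_cancel_left] at this)
    have htt := Involutions.mul_self_eq_one ht
    set v : (bigSub h) := ⟨t⁻¹ * g, htg⟩ with hv
    let D : Subgroup (bigSub h) := ((bigSub h).comap (MulAut.conj t⁻¹).toMonoidHom).subgroupOf (bigSub h)
    have hD : ∀ m : (bigSub h), m ∈ D ↔ t⁻¹ * (m : G) * t ∈ (bigSub h) := fun m => by
      show t⁻¹ * (m : G) * t⁻¹⁻¹ ∈ (bigSub h) ↔ _
      rw [inv_inv]
    have hval : ∀ m : (bigSub h), conj (extendByZero (bigSub h) (fun n => (mu n : ℂ)) (g⁻¹ * (m : G) * g)) =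
        if hm' : t⁻¹ * (m : G) * t ∈ (bigSub h) then (((mu ⟨_, hm'⟩)⁻¹ : ℂˣ) : ℂ) else (0 : ℂ) := by
      intro m
      have e : g⁻¹ * (m : G) * g = (v : G)⁻¹ * (t⁻¹ * (m : G) * t) * (v : G) := by
        simp only [hv]; group
      split_ifs with hm'
      · rw [e, Frobenius.extendByZero_of_mem (bigSub h) _ (mul_mem (mul_mem (inv_mem v.2) hm') v.2),
          show (⟨(v : G)⁻¹ * (t⁻¹ * (m : G) * t) * v, mul_mem (mul_mem (inv_mem v.2) hm') v.2⟩ : (bigSub h)) =
            v⁻¹ * ⟨_, hm'⟩ * v from rfl]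
        simp only [map_mul, map_inv]
        rw [mul_right_comm, inv_mul_cancel, one_mul, ← linear_apply_inv mu]
      · rw [Frobenius.extendByZero_of_not_mem (bigSub h), map_zero]
        intro e'
        apply hm'
        rw [e] at e'
        have := mul_mem (mul_mem v.2 e') (inv_mem v.2)
        rwa [show (v : G) * ((v : G)⁻¹ * (t⁻¹ * (m : G) * t) * v) * (v : G)⁻¹ =
          t⁻¹ * (m : G) * t by group] at this
    simp only [hval]
    let tc : D →* (bigSub h) :=
      { toFun := fun d => ⟨t⁻¹ * ((d : (bigSub h)) : G) * t, (hD d).1 d.2⟩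
        map_one' := Subtype.ext (by simp)
        map_mul' := fun a b => Subtype.ext (by simp only [Subgroup.coe_mul]; group) }
    let ψ : D →* ℂ :=
      { toFun := fun d => (lam d : ℂ) * ((mu (tc d))⁻¹ : ℂˣ)
        map_one' := by simp
        map_mul' := fun a b => by
          simp only [map_mul, Subgroup.coe_mul, Units.val_mul, mul_inv_rev]; ring }
    have hψ : ψ ≠ 1 := by
      intro e
      apply hne
      ext m
      obtain ⟨k, hk, hki, hka⟩ := h.exists_inverted hP ht htM m.2
      have hti : t⁻¹ = t := Involutions.inv_eq_self ht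
      have hkD : (⟨k, hk⟩ : (bigSub h)) ∈ D := by rw [hD, hti, hki]; exact inv_mem hk
      have e1 := DFunLike.congr_fun e ⟨⟨k, hk⟩, hkD⟩
      simp only [ψ, tc, MonoidHom.coe_mk, OneHom.coe_mk, MonoidHom.one_apply] at e1
      have e2 : (⟨t⁻¹ * k * t, (hD ⟨k, hk⟩).1 hkD⟩ : (bigSub h)) = (⟨k, hk⟩ : (bigSub h))⁻¹ :=
        Subtype.ext (by simp [hti, hki])
      rw [e2, map_inv, inv_inv, ← Units.val_mul] at e1
      have e3 : m = ⟨k, hk⟩ * ⟨k⁻¹ * (m : G), mul_mem (inv_mem hk) m.2⟩ := Subtype.ext (by simp)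
      rw [MonoidHom.mul_apply, MonoidHom.one_apply, e3, map_mul, map_mul, hl ⟨k⁻¹ * (m : G), mul_mem (inv_mem hk) m.2⟩ hka, hm ⟨k⁻¹ * (m : G), mul_mem (inv_mem hk) m.2⟩ hka,
        mul_one, mul_one, e1, Units.val_one]
    have h0 := sum_hom_units_eq_zero ψ hψ
    refine Eq.trans ?_ h0
    symm
    refine Finset.sum_of_injOn Subtype.val Subtype.val_injective.injOn
      (fun _ _ => Finset.mem_univ _) (fun m _ hm' => ?_) (fun d _ => ?_)
    · rw [dif_neg, mul_zero]
      exact fun e => hm' ⟨⟨m, (hD m).2 e⟩, Finset.mem_coe.2 (Finset.mem_univ _), rfl⟩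
    · rw [dif_pos ((hD d).1 d.2)]; rfl
  have hin : ∀ g : (bigSub h), ∑ m : (bigSub h),
      (lam m : ℂ) * conj (extendByZero (bigSub h) (fun n => (mu n : ℂ)) ((g : G)⁻¹ * (m : G) * g)) =
      c * if lam = mu then 1 else 0 := by
    intro g
    have e : ∀ m : (bigSub h), conj (extendByZero (bigSub h) (fun n => (mu n : ℂ)) ((g : G)⁻¹ * (m : G) * g)) =
        ((mu m)⁻¹ : ℂˣ) := fun m => by
      rw [show (g : G)⁻¹ * (m : G) * g = ((g⁻¹ * m * g : (bigSub h)) : G) from rfl,
        Frobenius.extendByZero_coe]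
      simp only [map_mul, map_inv]
      rw [mul_right_comm, inv_mul_cancel, one_mul, ← linear_apply_inv mu]
    simp only [e]
    split_ifs with heq
    · subst heq
      simp [hc, Nat.card_eq_fintype_card]
    · rw [mul_zero]
      refine sum_hom_units_eq_zero ((Units.coeHom ℂ).comp (lam / mu)) ?_ |>.symm.trans ?_ |>.symm
      · intro e'
        apply heq
        rw [← div_eq_one]
        ext m
        simpa using DFunLike.congr_fun e' m
      · exact Finset.sum_congr rfl fun m _ => by simp [div_eq_mul_inv]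
  have hsplit : ∑ g : G, ∑ m : (bigSub h),
      (lam m : ℂ) * conj (extendByZero (bigSub h) (fun n => (mu n : ℂ)) (g⁻¹ * (m : G) * g)) =
      ∑ g : (bigSub h), ∑ m : (bigSub h),
        (lam m : ℂ) * conj (extendByZero (bigSub h) (fun n => (mu n : ℂ)) ((g : G)⁻¹ * (m : G) * g)) := by
    symm
    refine Finset.sum_of_injOn Subtype.val Subtype.val_injective.injOn
      (fun _ _ => Finset.mem_univ _) (fun g _ hg => hout g fun e => hg ⟨⟨g, e⟩, by simp, rfl⟩)
      fun g _ => rfl
  simp only [hin, Finset.sum_const, Finset.card_univ, ← Nat.card_eq_fintype_card, nsmul_eq_mul]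
    at hsplit
  calc _ = c⁻¹ * c⁻¹ * ∑ g : G, ∑ m : (bigSub h),
      (lam m : ℂ) * conj (extendByZero (bigSub h) (fun n => (mu n : ℂ)) (g⁻¹ * (m : G) * g)) := by
        simp only [Finset.mul_sum]
        exact Finset.sum_congr rfl fun g _ => Finset.sum_congr rfl fun m _ => by ring
    _ = _ := by
      rw [hsplit, ← hc]
      field_simp
      split_ifs <;> rfl

theorem odd_relIndex : Odd ((innerSub h).relIndex (bigSub h)) := by
  haveI : Fact (Nat.Prime 2) := ⟨Nat.prime_two⟩
  have hdvd : (innerSub h).relIndex (bigSub h) ∣ (P : Subgroup G).index := by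
    refine (Subgroup.relIndex_dvd_of_le_left (bigSub h) (le_sup_right : (P : Subgroup G) ≤ _)).trans ?_
    exact Dvd.intro _ (Subgroup.relIndex_mul_index (Subgroup.le_normalizer.trans le_sup_right))
  exact Nat.not_even_iff_odd.1 fun e => P.not_dvd_index ((even_iff_two_dvd.1 e).trans hdvd)

theorem outer_mul_self_ne_one {lam : bigSub h →* ℂˣ} (hl : IsOuter h lam) (hne : lam ≠ 1) :
    lam * lam ≠ 1 := by
  intro e
  apply hne
  ext m
  haveI := h.innerSub_normal
  have h1 : lam m ^ Nat.card (bigSub h ⧸ (innerSub h).subgroupOf (bigSub h)) = 1 := by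
    rw [← map_pow]
    refine hl _ (Subgroup.mem_subgroupOf.1 ?_)
    rw [← QuotientGroup.eq_one_iff, QuotientGroup.mk_pow, pow_card_eq_one']
  obtain ⟨j, hj⟩ := h.odd_relIndex
  rw [show Nat.card (bigSub h ⧸ (innerSub h).subgroupOf (bigSub h)) = 2 * j + 1 from hj, pow_succ,
    pow_mul, pow_two, ← MonoidHom.mul_apply, e] at h1
  simpa using congrArg Units.val h1

/-- The induced characters are irreducible. -/
theorem isIrrCharacter_induced (hP : ¬ (P : Subgroup G).Normal) {lam : bigSub h →* ℂˣ}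
    (hl : IsOuter h lam) (hne : lam ≠ 1) :
    IsIrrCharacter G (indFun (bigSub h) fun m => (lam m : ℂ)) := by
  classical
  haveI := Fintype.ofFinite (bigSub h)
  rw [CharTheory.isIrrCharacter_iff_norm_one (Frobenius.isCharacter_indFun _ _
    (CharTheory.IsIrrCharacter.isCharacter (CharTheory.isIrrCharacter_linear lam))),
    h.classInner_induced hP lam lam hl hl (h.outer_mul_self_ne_one hl hne), if_pos rfl]

/-- The induced characters are one on the elements of `W P` with a power an involution. -/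
theorem induced_apply (hP : ¬ (P : Subgroup G).Normal) {lam : bigSub h →* ℂˣ}
    (hl : IsOuter h lam) {g : G} (hg : g ∈ innerSub h) {k : ℕ} (hk : orderOf (g ^ k) = 2) :
    indFun (bigSub h) (fun m => (lam m : ℂ)) g = 1 := by
  classical
  have hgM := h.innerSub_le_bigSub hg
  have hval : ∀ z : G, extendByZero (bigSub h) (fun m => (lam m : ℂ)) (z⁻¹ * g * z) =
      if z ∈ bigSub h then 1 else 0 := by
    intro z
    split_ifs with hz
    · have hm : z⁻¹ * g * z ∈ bigSub h := mul_mem (mul_mem (inv_mem hz) hgM) hz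
      rw [Frobenius.extendByZero_of_mem _ _ hm]
      have h1 := h.conj_mem_innerSub (inv_mem hz) hg
      rw [inv_inv] at h1
      rw [hl ⟨_, hm⟩ h1, Units.val_one]
    · rw [Frobenius.extendByZero_of_not_mem]
      intro e
      refine hz ((inv_mem_iff).1 (mem_of_conj_mem_of_stronglyEmbedded (h.stronglyEmbedded hP)
        (pow_mem hgM k) hk ?_))
      have e2 := pow_mem e k
      have h3 : (z⁻¹ * g * z⁻¹⁻¹) ^ k = z⁻¹ * g ^ k * z⁻¹⁻¹ := conj_pow
      rw [inv_inv] at h3
      rwa [h3, show z⁻¹ * g ^ k * z = z⁻¹ * g ^ k * z⁻¹⁻¹ by rw [inv_inv]] at e2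
  unfold indFun
  rw [Finset.sum_congr rfl fun z _ => hval z, Finset.sum_boole, ← Fintype.card_subtype,
    ← Nat.card_eq_fintype_card]
  exact inv_mul_cancel₀ (Nat.cast_ne_zero.2 Nat.card_pos.ne')

end Hyp

end CfsgLib.AbelianTwo
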