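import Cfsg.Agent.Lib.AbelianTwo.Setup
import Cfsg.Agent.Lib.AbelianTwo.Induced
import Cfsg.Agent.Lib.BlockSections.ExceptionalSetup

/-!
Sylow subgroups of exponent at least four in the strongly embedded situation: the action of the
normalizer, the involutions of `W N(P)` and the size of the coset space.
-/

set_option autoImplicit false
set_option linter.unusedSectionVars false
set_option linter.style.haveILetI false

open Cfsg CfsgLib.TwoFusion CfsgLib.Involutions

namespace CfsgLib.AbelianTwo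

variable {G : Type*} [Group G] [Finite G]

local notation "θ" => Cfsg.centralizerPPrimeCore 2
local notation "CG(" x ")" => Subgroup.centralizer ({x} : Set _)

/-- A map with fibres of constant cardinality. -/
theorem card_eq_mul_fibre {A V : Type*} [Finite A] [Finite V] (f : A → V) (x : V)
    (hf : ∀ v, Nat.card {a // f a = v} = Nat.card {a // f a = x}) :
    Nat.card A = Nat.card V * Nat.card {a // f a = x} := by
  haveI := Fintype.ofFinite V
  rw [← Nat.card_congr (Equiv.sigmaFiberEquiv f), Nat.card_sigma, Finset.sum_congr rfl (fun v _ => hf v),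
    Finset.sum_const, Finset.card_univ, smul_eq_mul, Nat.card_eq_fintype_card (α := V)]

/-- The order of `N(P) / C(P)`. -/
noncomputable def autOrder (P : Sylow 2 G) : ℕ :=
  (Subgroup.centralizer ((P : Subgroup G) : Set G)).relIndex
    (Subgroup.normalizer ((P : Subgroup G) : Set G))

theorem exists_orderOf_pow_two {y : G} (hy : y ≠ 1) (h2 : ∃ k : ℕ, orderOf y = 2 ^ k) :
    ∃ n : ℕ, orderOf (y ^ n) = 2 := by
  obtain ⟨k, hk⟩ := h2
  refine ⟨orderOf y / 2, orderOf_pow_orderOf_div (orderOf_pos y).ne' ?_⟩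
  rw [hk]
  refine dvd_pow_self 2 fun e => hy ?_
  rw [← orderOf_eq_one_iff, hk, e, pow_zero]

namespace Hyp

variable {P : Sylow 2 G} (h : Hyp P)
include h

theorem exists_pow_orderOf {y : G} (hy : y ∈ (P : Subgroup G)) : ∃ k : ℕ, orderOf y = 2 ^ k := by
  obtain ⟨k, hk⟩ := IsPGroup.iff_orderOf.1 P.isPGroup' ⟨y, hy⟩
  exact ⟨k, by rwa [Subgroup.orderOf_mk] at hk⟩

/-- An element of `W P` normalizing `P` centralizes it. -/
theorem mem_centralizer_sylow {c : G} (hc : c ∈ innerSub h)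
    (hcN : c ∈ Subgroup.normalizer ((P : Subgroup G) : Set G)) :
    c ∈ Subgroup.centralizer ((P : Subgroup G) : Set G) := by
  obtain ⟨w, hw, p, hp, rfl⟩ := h.mem_innerSub_iff.1 hc
  refine Subgroup.mem_centralizer_iff.2 fun v (hv : v ∈ (P : Subgroup G)) => ?_
  have hwN : w ∈ Subgroup.normalizer ((P : Subgroup G) : Set G) := by
    have hpN : p ∈ Subgroup.normalizer ((P : Subgroup G) : Set G) := Subgroup.le_normalizer hp
    simpa [mul_assoc] using mul_mem hcN (inv_mem hpN)
  have h1 : w * v * w⁻¹ * v⁻¹ ∈ coreClosure h ⊓ (P : Subgroup G) := by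
    have hv' : v⁻¹ ∈ (P : Subgroup G) := inv_mem hv
    refine ⟨?_, mul_mem ((Subgroup.mem_normalizer_iff.1 hwN v).1 hv) hv'⟩
    rw [show w * v * w⁻¹ * v⁻¹ = w * (v * w⁻¹ * v⁻¹) by group]
    have hw' : w⁻¹ ∈ coreClosure h := inv_mem hw
    exact mul_mem hw ((Subgroup.mem_normalizer_iff.1 (h.sylow_le_normalizer hv) _).1 hw')
  rw [h.inf_coreClosure, Subgroup.mem_bot, mul_inv_eq_one, mul_inv_eq_iff_eq_mul] at h1
  calc v * (w * p) = v * w * p := (mul_assoc _ _ _).symm
    _ = w * (v * p) := by rw [← h1, mul_assoc]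
    _ = w * p * v := by rw [h.comm v hv p hp, ← mul_assoc]

theorem sylow_le_centralizer :
    (P : Subgroup G) ≤ Subgroup.centralizer ((P : Subgroup G) : Set G) :=
  fun v hv => Subgroup.mem_centralizer_iff.2 fun w hw => h.comm w hw v hv

theorem centralizer_sylow_le : Subgroup.centralizer ((P : Subgroup G) : Set G) ≤ innerSub h := by
  obtain ⟨x, hxP, hx⟩ := h.exists_involution
  exact fun c hc => h.centralizer_le_innerSub hxP hx
    (Subgroup.mem_centralizer_singleton_iff.2 (Subgroup.mem_centralizer_iff.1 hc x hxP).symm)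

theorem isFrobSylow : BlockSections.Exceptional.IsFrobSylow P (autOrder P) := by
  refine ⟨⟨⟨fun a b => Subtype.ext (h.comm a a.2 b b.2)⟩⟩, rfl, fun y hy hy1 => le_antisymm ?_ ?_⟩
  · rintro c ⟨hc, hcN⟩
    obtain ⟨n, hn⟩ := exists_orderOf_pow_two hy1 (h.exists_pow_orderOf hy)
    exact h.mem_centralizer_sylow (h.centralizer_le_innerSub (pow_mem hy n) hn
      (Subgroup.mem_centralizer_singleton_iff.2
        ((show Commute c y from Subgroup.mem_centralizer_singleton_iff.1 hc).pow_right n).eq)) hcN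
  · exact fun c hc => ⟨Subgroup.mem_centralizer_singleton_iff.2
      (Subgroup.mem_centralizer_iff.1 hc y hy).symm, Subgroup.centralizer_le_normalizer _ hc⟩

theorem mem_innerSub_of_involution {t : G} (ht : t ∈ bigSub h) (ht2 : orderOf t = 2) :
    t ∈ innerSub h :=
  h.centralizer_le_innerSub' ht ht2 (Subgroup.mem_centralizer_singleton_iff.2 rfl)

theorem commutator_mem {a b : G} (ha : a ∈ innerSub h) (hb : b ∈ innerSub h) :
    a * b * a⁻¹ * b⁻¹ ∈ coreClosure h := by
  obtain ⟨w, hw, p, hp, rfl⟩ := h.mem_innerSub_iff.1 ha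
  obtain ⟨v, hv, r, hr, rfl⟩ := h.mem_innerSub_iff.1 hb
  have e : p * r * p⁻¹ = r := by rw [h.comm p hp r hr, mul_inv_cancel_right]
  rw [show w * p * (v * r) * (w * p)⁻¹ * (v * r)⁻¹ =
    w * (p * v * p⁻¹) * ((p * r * p⁻¹) * w⁻¹ * r⁻¹) * v⁻¹ by group, e]
  exact mul_mem (mul_mem (mul_mem hw
    ((Subgroup.mem_normalizer_iff.1 (h.sylow_le_normalizer hp) v).1 hv))
    ((Subgroup.mem_normalizer_iff.1 (h.sylow_le_normalizer hr) _).1 (inv_mem hw))) (inv_mem hv)

/-- A 2-element inverted by an involution has square one. -/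
theorem mul_self_of_inverted (hP : ¬ (P : Subgroup G).Normal) {t y : G}
    (hy : ∃ k : ℕ, orderOf y = 2 ^ k) (hty : t * y * t⁻¹ = y⁻¹) : y * y = 1 := by
  by_cases hy1 : y = 1
  · rw [hy1, one_mul]
  obtain ⟨n, hn⟩ := exists_orderOf_pow_two hy1 hy
  obtain ⟨x, hxP, hx⟩ := h.exists_involution
  obtain ⟨g, hg⟩ := isConj_iff.1 (isConj_involutions (h.stronglyEmbedded hP) hn hx)
  have hb : g * y * g⁻¹ ∈ innerSub h := by
    refine h.centralizer_le_innerSub hxP hx (Subgroup.mem_centralizer_singleton_iff.2 ?_)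
    rw [← hg]
    exact ((Commute.self_pow y n).map (MulAut.conj g).toMonoidHom).eq
  have hcv : Commute t (y ^ n) := by
    have e : t * y ^ n * t⁻¹ = y ^ n := by
      rw [← conj_pow, hty, inv_pow, Involutions.inv_eq_self hn]
    exact mul_inv_eq_iff_eq_mul.1 e
  have ha : g * t * g⁻¹ ∈ innerSub h := by
    refine h.centralizer_le_innerSub hxP hx (Subgroup.mem_centralizer_singleton_iff.2 ?_)
    rw [← hg]
    exact (hcv.map (MulAut.conj g).toMonoidHom).eq
  have h1 := inv_mem (h.commutator_mem ha hb)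
  rw [show g * t * g⁻¹ * (g * y * g⁻¹) * (g * t * g⁻¹)⁻¹ * (g * y * g⁻¹)⁻¹ =
    g * (t * y * t⁻¹ * y⁻¹) * g⁻¹ by group, hty,
    show (g * (y⁻¹ * y⁻¹) * g⁻¹)⁻¹ = g * (y * y) * g⁻¹ by simp [mul_assoc]] at h1
  have hd : orderOf (y * y) ∣ orderOf y := by rw [← pow_two]; exact orderOf_pow_dvd 2
  obtain ⟨k, hk⟩ := hy
  obtain ⟨j, -, hj⟩ := (Nat.dvd_prime_pow Nat.prime_two).1 (hk ▸ hd)
  have ho : Odd (orderOf (y * y)) := by
    rw [← orderOf_conj g (y * y)]
    exact h.odd_coreClosure.of_dvd_nat (Subgroup.orderOf_dvd_natCard _ h1)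
  rcases Nat.eq_zero_or_pos j with e | e
  · rwa [e, pow_zero, orderOf_eq_one_iff] at hj
  · rw [hj] at ho
    exact absurd ho (Nat.not_odd_iff_even.2 (Nat.even_pow.2 ⟨even_two, e.ne'⟩))

/-- The action on the involutions of `P` is regular. -/
theorem card_involutions_sylow (hP : ¬ (P : Subgroup G).Normal) :
    Nat.card {v : G // v ∈ (P : Subgroup G) ∧ orderOf v = 2} = autOrder P := by
  classical
  haveI := Fintype.ofFinite G
  obtain ⟨x, hxP, hx⟩ := h.exists_involution
  have hF := h.isFrobSylow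
  rw [← BlockSections.Exceptional.card_autP hF]
  refine (Nat.card_congr (Equiv.ofBijective
    (fun α : BlockSections.Exceptional.autP P =>
      (⟨((α : MulAut (P : Subgroup G)) ⟨x, hxP⟩ : (P : Subgroup G)), Subtype.coe_prop _, by
        rw [Subgroup.orderOf_coe, MulEquiv.orderOf_eq, Subgroup.orderOf_mk]; exact hx⟩ :
        {v : G // v ∈ (P : Subgroup G) ∧ orderOf v = 2})) ⟨?_, ?_⟩)).symm
  · intro α β e
    refine Subtype.ext (BlockSections.Exceptional.eq_of_autP_apply hF α.2 β.2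
      (y := ⟨x, hxP⟩) ?_ (Subtype.ext (congrArg (fun v : {v : G // v ∈ (P : Subgroup G) ∧
        orderOf v = 2} => (v : G)) e)))
    intro e1
    have : x = 1 := congrArg Subtype.val e1
    rw [this, orderOf_one] at hx
    omega
  · rintro ⟨v, hvP, hv⟩
    obtain ⟨α, hα, he⟩ := (BlockSections.Exceptional.isConj_iff_autP hF (y := ⟨x, hxP⟩)
      (y' := ⟨v, hvP⟩)).1 (isConj_involutions (h.stronglyEmbedded hP) hx hv)
    exact ⟨⟨α, hα⟩, Subtype.ext (congrArg (fun z : (P : Subgroup G) => (z : G)) he :)⟩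

theorem card_omega (hP : ¬ (P : Subgroup G).Normal) :
    Nat.card (omega P h.comm) = autOrder P + 1 := by
  rw [← h.card_involutions_sylow hP, ← Involutions.card_subtype_ne_add_one
    (P := fun g : G => g ∈ omega P h.comm) (one_mem _)]
  congr 1
  refine Nat.card_congr (Equiv.subtypeEquivRight fun v => ?_)
  constructor
  · rintro ⟨⟨hv, hv2⟩, hv1⟩
    exact ⟨hv, orderOf_eq_two_iff.2 ⟨hv2, hv1⟩⟩
  · rintro ⟨hv, hv2⟩
    exact ⟨⟨hv, (orderOf_eq_two_iff.1 hv2).1⟩, (orderOf_eq_two_iff.1 hv2).2⟩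

theorem seven_le_autOrder (hP : ¬ (P : Subgroup G).Normal) : 7 ≤ autOrder P := by
  obtain ⟨E, hE, hsq, h8⟩ := h.rank
  have := h8.trans (Subgroup.card_le_of_le
    (show E ≤ omega P h.comm from fun e he => ⟨hE he, hsq e he⟩))
  rw [h.card_omega hP] at this
  omega

/-- With exponent at least four every involution of `P` is a square. -/
theorem exists_sqrt (hP : ¬ (P : Subgroup G).Normal) {u : G} (hu : u ∈ (P : Subgroup G))
    (hu2 : u * u ≠ 1) {v : G} (hv : v ∈ omega P h.comm) :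
    ∃ w ∈ (P : Subgroup G), w * w = v := by
  by_cases hv1 : v = 1
  · exact ⟨1, one_mem _, by rw [hv1, one_mul]⟩
  have hv2 : orderOf v = 2 := orderOf_eq_two_iff.2 ⟨hv.2, hv1⟩
  obtain ⟨n, hn⟩ := exists_orderOf_pow_two hu2 (h.exists_pow_orderOf (mul_mem hu hu))
  obtain ⟨c, hc, he⟩ := h.exists_normalizer (pow_mem (mul_mem hu hu) n) hv.1
    (isConj_involutions (h.stronglyEmbedded hP) hn hv2)
  refine ⟨c * u ^ n * c⁻¹, (Subgroup.mem_normalizer_iff.1 hc _).1 (pow_mem hu n), ?_⟩
  rw [← he, show c * u ^ n * c⁻¹ * (c * u ^ n * c⁻¹) = c * (u ^ n * u ^ n) * c⁻¹ by group,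
    (Commute.refl u).mul_pow]

theorem sq_le_card (hP : ¬ (P : Subgroup G).Normal) {u : G} (hu : u ∈ (P : Subgroup G))
    (hu2 : u * u ≠ 1) : (autOrder P + 1) * (autOrder P + 1) ≤ Nat.card (P : Subgroup G) := by
  choose r hr hr2 using fun v : omega P h.comm => h.exists_sqrt hP hu hu2 v.2
  rw [← h.card_omega hP, ← Nat.card_prod]
  refine Nat.card_le_card_of_injective
    (fun a : omega P h.comm × omega P h.comm =>
      (⟨(a.1 : G) * r a.2, mul_mem a.1.2.1 (hr a.2)⟩ : (P : Subgroup G))) ?_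
  intro a b e
  have e' : (a.1 : G) * r a.2 = (b.1 : G) * r b.2 := congrArg Subtype.val e
  have hsq : ∀ c : omega P h.comm × omega P h.comm,
      (c.1 : G) * r c.2 * ((c.1 : G) * r c.2) = c.2 := fun c => by
    rw [mul_assoc, ← mul_assoc (r c.2) (c.1 : G), h.comm _ (hr c.2) _ c.1.2.1,
      mul_assoc (c.1 : G) (r c.2), hr2, ← mul_assoc, c.1.2.2, one_mul]
  have h2 : a.2 = b.2 := Subtype.ext (by rw [← hsq a, ← hsq b, e'])
  rw [h2] at e'
  exact Prod.ext (Subtype.ext (mul_right_cancel e')) h2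

/-- `W N(P) / W P` is `N(P) / C(P)`. -/
theorem relIndex_innerSub : (innerSub h).relIndex (bigSub h) = autOrder P := by
  haveI := h.innerSub_normal
  set N := Subgroup.normalizer ((P : Subgroup G) : Set G) with hNdef
  let φ : N →* bigSub h ⧸ (innerSub h).subgroupOf (bigSub h) :=
    (QuotientGroup.mk' _).comp
      (Subgroup.inclusion (show N ≤ bigSub h from le_sup_right))
  have hker : φ.ker = (Subgroup.centralizer ((P : Subgroup G) : Set G)).subgroupOf N := by
    ext n
    rw [MonoidHom.mem_ker, MonoidHom.comp_apply, QuotientGroup.mk'_apply, QuotientGroup.eq_one_iff,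
      Subgroup.mem_subgroupOf, Subgroup.mem_subgroupOf, Subgroup.coe_inclusion]
    exact ⟨fun hn => h.mem_centralizer_sylow hn n.2, fun hn => h.centralizer_sylow_le hn⟩
  have hsurj : Function.Surjective φ := by
    intro z
    obtain ⟨⟨g, hg⟩, rfl⟩ := QuotientGroup.mk_surjective z
    obtain ⟨w, hw, n, hn, rfl⟩ := h.mem_bigSub_iff.1 hg
    refine ⟨⟨n, hn⟩, ?_⟩
    rw [MonoidHom.comp_apply, QuotientGroup.mk'_apply, QuotientGroup.eq, Subgroup.mem_subgroupOf]
    show n⁻¹ * (w * n) ∈ innerSub h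
    have := (Subgroup.mem_normalizer_iff.1 (h.normalizer_le (inv_mem hn)) w).1 hw
    rw [inv_inv] at this
    rw [← mul_assoc]
    exact Subgroup.mem_sup_left this
  show _ = (Subgroup.centralizer ((P : Subgroup G) : Set G)).relIndex N
  rw [Subgroup.relIndex, Subgroup.relIndex, ← hker, Subgroup.index_ker,
    MonoidHom.range_eq_top.2 hsurj, Subgroup.card_top, Subgroup.index_eq_card]

theorem card_bigSub : Nat.card (bigSub h) =
    Nat.card (coreClosure h) * Nat.card (P : Subgroup G) * autOrder P := by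
  rw [← h.relIndex_innerSub, ← h.card_innerSub,
    ← Nat.card_congr (Subgroup.subgroupOfEquivOfLe h.innerSub_le_bigSub).toEquiv,
    Subgroup.relIndex, Subgroup.card_mul_index]

/-- `P` acts freely on the cosets other than `W N(P)`. -/
theorem card_lt_index (hP : ¬ (P : Subgroup G).Normal) :
    Nat.card (P : Subgroup G) < (bigSub h).index := by
  classical
  have hSE := h.stronglyEmbedded hP
  obtain ⟨g, -, hg⟩ := SetLike.exists_of_lt (lt_top_iff_ne_top.2 hSE.1)
  have hPM : (P : Subgroup G) ≤ bigSub h := Subgroup.le_normalizer.trans le_sup_right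
  rw [Subgroup.index_eq_card, Nat.lt_iff_add_one_le,
    ← Finite.card_option (α := (P : Subgroup G))]
  refine Nat.card_le_card_of_injective
    (fun y : Option (P : Subgroup G) => match y with
      | none => ((1 : G) : G ⧸ bigSub h)
      | some v => (((v : G) * g : G) : G ⧸ bigSub h)) ?_
  have hne : ∀ v : (P : Subgroup G), ((1 : G) : G ⧸ bigSub h) ≠ (((v : G) * g : G) : G ⧸ bigSub h) := by
    intro v e
    rw [QuotientGroup.eq, inv_one, one_mul, Subgroup.mul_mem_cancel_left _ (hPM v.2)] at e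
    exact hg e
  rintro (_ | a) (_ | b) e
  · rfl
  · exact absurd e (hne b)
  · exact absurd e.symm (hne a)
  · have e1 : g⁻¹ * ((a : G)⁻¹ * b) * g ∈ bigSub h := by
      have := QuotientGroup.eq.1 e
      rwa [mul_inv_rev, show g⁻¹ * (a : G)⁻¹ * ((b : G) * g) = g⁻¹ * ((a : G)⁻¹ * b) * g by group]
        at this
    by_contra hab
    have hy : (a : G)⁻¹ * b ∈ (P : Subgroup G) := mul_mem (inv_mem a.2) b.2
    have hy1 : (a : G)⁻¹ * b ≠ 1 := fun e => hab (congrArg some (Subtype.ext (inv_mul_eq_one.1 e)))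
    obtain ⟨n, hn⟩ := exists_orderOf_pow_two hy1 (h.exists_pow_orderOf hy)
    refine hg (inv_mem_iff.1 (mem_of_conj_mem_of_stronglyEmbedded hSE
      (hPM (pow_mem hy n)) hn ?_))
    rw [← conj_pow, inv_inv]
    exact pow_mem e1 n

/-- Involutions of `W N(P)` outside a given coset of `W`. -/
theorem card_off_coset (hP : ¬ (P : Subgroup G).Normal) {x : G} (hxP : x ∈ (P : Subgroup G))
    (hx : orderOf x = 2) :
    Nat.card {t : G // orderOf t = 2 ∧ t ∈ bigSub h ∧ t * x ∉ coreClosure h} * Nat.card (θ x) =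
      (autOrder P - 1) * Nat.card (coreClosure h) := by
  classical
  set T := {t : G // orderOf t = 2 ∧ t ∈ bigSub h}
  set V := {v : G // v ∈ (P : Subgroup G) ∧ orderOf v = 2}
  have hx2 := Involutions.mul_self_eq_one hx
  have hex : ∀ t : T, ∃ v : V, (t : G) * (v : G) ∈ coreClosure h := by
    intro t
    obtain ⟨w, hw, p, hp, e⟩ := h.mem_innerSub_iff.1 (h.mem_innerSub_of_involution t.2.2 t.2.1)
    have ht2 : (t : G) * t = 1 := Involutions.mul_self_eq_one t.2.1
    have hpp : p * p ∈ coreClosure h ⊓ (P : Subgroup G) := by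
      refine ⟨?_, mul_mem hp hp⟩
      rw [e] at ht2
      have e3 : w⁻¹ = p * w * p :=
        inv_eq_of_mul_eq_one_right (by rw [← ht2]; group)
      have e2 : p * p = p * w⁻¹ * p⁻¹ * w⁻¹ := by
        rw [e3, show p * (p * w * p) * p⁻¹ * (p * w * p) = p * p * (w * p * (w * p)) by group, ht2,
          mul_one]
      rw [e2]
      have hw' : w⁻¹ ∈ coreClosure h := inv_mem hw
      exact mul_mem ((Subgroup.mem_normalizer_iff.1 (h.sylow_le_normalizer hp) _).1 hw') hw' 
    rw [h.inf_coreClosure, Subgroup.mem_bot] at hpp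
    have hp1 : p ≠ 1 := by
      rintro rfl
      rw [mul_one] at e
      have ho := h.odd_coreClosure.of_dvd_nat (Subgroup.orderOf_dvd_natCard _ (e.symm ▸ hw : (t : G) ∈ coreClosure h))
      rw [t.2.1] at ho
      exact absurd ho (by decide)
    refine ⟨⟨p, hp, orderOf_eq_two_iff.2 ⟨hpp, hp1⟩⟩, ?_⟩
    rw [e, mul_assoc, hpp, mul_one]
    exact hw
  choose f hf using hex
  have huniq : ∀ (t : T) (v : V), (t : G) * (v : G) ∈ coreClosure h → f t = v := by
    intro t v hv
    have h1 : ((f t : G))⁻¹ * (v : G) ∈ coreClosure h ⊓ (P : Subgroup G) := by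
      have h2 : ((f t : G))⁻¹ ∈ (P : Subgroup G) := inv_mem (f t).2.1
      refine ⟨?_, mul_mem h2 v.2.1⟩
      have h3 : ((t : G) * (f t : G))⁻¹ ∈ coreClosure h := inv_mem (hf t)
      have := mul_mem h3 hv
      rwa [mul_inv_rev, mul_assoc, ← mul_assoc ((t : G))⁻¹, inv_mul_cancel, one_mul] at this
    rw [h.inf_coreClosure, Subgroup.mem_bot, inv_mul_eq_one] at h1
    exact Subtype.ext h1
  set x0 : V := ⟨x, hxP, hx⟩
  have hfib : ∀ v, Nat.card {a // f a = v} = Nat.card {a // f a = x0} := by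
    intro v
    obtain ⟨n, hn, hnv⟩ := h.exists_normalizer hxP v.2.1
      (isConj_involutions (h.stronglyEmbedded hP) hx v.2.2)
    have hnM : n ∈ bigSub h := Subgroup.mem_sup_right hn
    have hmap : ∀ a : T, orderOf (n * (a : G) * n⁻¹) = 2 ∧ n * (a : G) * n⁻¹ ∈ bigSub h :=
      fun a => ⟨by rw [orderOf_conj, a.2.1], mul_mem (mul_mem hnM a.2.2) (inv_mem hnM)⟩
    refine (Nat.card_congr (Equiv.ofBijective
      (fun a : {a // f a = x0} => (⟨⟨n * (a.1 : G) * n⁻¹, hmap a.1⟩, huniq _ _ (by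
        have h1 := hf a.1
        rw [a.2] at h1
        have h2 := (Subgroup.mem_normalizer_iff.1 (h.normalizer_le hn) _).1 h1
        show n * (a.1 : G) * n⁻¹ * (v : G) ∈ coreClosure h
        rwa [← hnv, show n * (a.1 : G) * n⁻¹ * (n * x * n⁻¹) = n * ((a.1 : G) * x) * n⁻¹ by
          group])⟩ : {a // f a = v})) ⟨?_, ?_⟩)).symm
    · intro a b e
      have := congrArg (fun z : {a // f a = v} => (z.1 : G)) e
      exact Subtype.ext (Subtype.ext (mul_left_cancel (mul_right_cancel this)))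
    · rintro ⟨⟨b, hb2, hbM⟩, hb⟩
      have h1 := hf ⟨b, hb2, hbM⟩
      rw [hb] at h1
      have hb' : orderOf (n⁻¹ * b * n) = 2 ∧ n⁻¹ * b * n ∈ bigSub h := by
        refine ⟨?_, mul_mem (mul_mem (inv_mem hnM) hbM) hnM⟩
        have := orderOf_conj n⁻¹ b
        rwa [inv_inv, hb2] at this
      refine ⟨⟨⟨_, hb'⟩, huniq _ _ ?_⟩, Subtype.ext (Subtype.ext ?_)⟩
      · have h2 := (Subgroup.mem_normalizer_iff.1 (h.normalizer_le (inv_mem hn)) _).1 h1
        show n⁻¹ * b * n * x ∈ coreClosure h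
        rwa [inv_inv, show n⁻¹ * (b * (v : G)) * n = n⁻¹ * b * n * x by rw [← hnv]; group] at h2
      · show n * (n⁻¹ * b * n) * n⁻¹ = b
        group
  have hT := card_eq_mul_fibre f x0 hfib
  rw [h.card_involutions_sylow hP] at hT
  have hcomp := Nat.card_congr (Equiv.sumCompl fun a : T => f a = x0)
  rw [Nat.card_sum, hT] at hcomp
  have hB : Nat.card {t : G // orderOf t = 2 ∧ t ∈ bigSub h ∧ t * x ∉ coreClosure h} =
      Nat.card {a : T // ¬ f a = x0} := by
    refine Nat.card_congr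
      { toFun := fun t => ⟨⟨t, t.2.1, t.2.2.1⟩, fun e => t.2.2.2 (by
          have := hf ⟨t, t.2.1, t.2.2.1⟩
          rwa [e] at this)⟩
        invFun := fun a => ⟨(a.1 : G), a.1.2.1, a.1.2.2, fun e => a.2 (huniq a.1 x0 e)⟩
        left_inv := fun _ => rfl
        right_inv := fun _ => rfl }
  have hcard := h.card_involutions_mul hP hxP hx
  rw [show Nat.card {t : G // orderOf t = 2 ∧ t ∈ bigSub h} = Nat.card T from rfl, hT,
    h.card_centralizer hxP hx, h.card_bigSub] at hcard
  have he := h.seven_le_autOrder hP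
  set k := Nat.card {a : T // f a = x0}
  have hk : k * Nat.card (θ x) = Nat.card (coreClosure h) := by
    refine Nat.eq_of_mul_eq_mul_left (by omega : 0 < autOrder P) ?_
    refine Nat.eq_of_mul_eq_mul_right (Nat.card_pos (α := (P : Subgroup G))) ?_
    linarith
  rw [hB, ← hk, ← mul_assoc]
  congr 1
  rw [Nat.sub_one_mul]
  omega

end Hyp

end CfsgLib.AbelianTwo
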