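import Cfsg.Agent.Lib.AltGroups.ZassenhausAbelian
import Cfsg.Agent.Lib.AltGroups.SharplyThreeTransitive
import Cfsg.Agent.Lib.SharplyEven.SimpleZassenhaus
import Mathlib.GroupTheory.Transfer
import Mathlib.GroupTheory.FixedPointFree

/-!
# A self-centralising abelian Sylow 2-subgroup with `|P| + 1` conjugates

If `P` is an abelian Sylow 2-subgroup with two involutions, the centraliser of each of its
involutions lies in `P` and `P` has `|P| + 1` conjugates, then the group is a Zassenhaus group on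
these conjugates and therefore `PSL₂(|P|)`.
-/

set_option autoImplicit false
set_option linter.all false

open MulAction Cfsg
open scoped Pointwise

namespace CfsgLib.AbelianTwo

universe u

variable {G : Type u} [Group G] [Finite G]

/-- No two commuting involutions with centralisers inside a 2-group disjoint from a normal
subgroup, unless this subgroup is trivial. -/
theorem eq_bot_of_two_inverters {P K : Subgroup G} [K.Normal] (hKP : K ⊓ P = ⊥)
    (hC : ∀ t ∈ P, t ≠ 1 → Subgroup.centralizer ({t} : Set G) ≤ P) {s t : G} (hs : s ∈ P)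
    (ht : t ∈ P) (hs2 : orderOf s = 2) (ht2 : orderOf t = 2) (hne : s ≠ t) : K = ⊥ := by
  have hinv : ∀ v ∈ P, orderOf v = 2 → ∀ k ∈ K, v * k * v⁻¹ = k⁻¹ := by
    intro v hv hv2 k hk
    have hv1 : v ≠ 1 := fun e => by simp [e] at hv2
    let φ : K ≃* K := MulAut.conjNormal v
    have hφ : MonoidHom.FixedPointFree φ := fun x hx => by
      have hx' : v * (x : G) * v⁻¹ = x := by
        have := congrArg Subtype.val hx
        simpa [φ] using this
      have : (x : G) ∈ K ⊓ P := ⟨x.2, hC v hv hv1 (Subgroup.mem_centralizer_singleton_iff.2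
        (mul_inv_eq_iff_eq_mul.1 hx').symm)⟩
      rw [hKP, Subgroup.mem_bot] at this
      exact Subtype.ext this
    have h2 : Function.Involutive φ := fun x => by
      have hvv : v * v = 1 := by rw [← pow_two, ← hv2, pow_orderOf_eq_one]
      refine Subtype.ext ?_
      simp only [φ, MulAut.conjNormal_apply]
      rw [show v * (v * (x : G) * v⁻¹) * v⁻¹ = (v * v) * x * (v * v)⁻¹ by group, hvv]
      simp
    have := congrFun (hφ.coe_eq_inv_of_involutive h2) ⟨k, hk⟩
    simpa [φ] using congrArg Subtype.val this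
  refine (Subgroup.eq_bot_iff_forall _).2 fun k hk => ?_
  have hst : s * t ≠ 1 := fun e => hne (by
    rw [mul_eq_one_iff_eq_inv.1 e]
    refine inv_eq_of_mul_eq_one_right ?_
    rw [← pow_two, ← ht2, pow_orderOf_eq_one])
  have hcen : s * t * k * (s * t)⁻¹ = k := by
    rw [show s * t * k * (s * t)⁻¹ = s * (t * k * t⁻¹) * s⁻¹ by group, hinv t ht ht2 k hk,
      ← conj_inv, hinv s hs hs2 k hk, inv_inv]
  have : k ∈ K ⊓ P := ⟨hk, hC _ (P.mul_mem hs ht) hst
    (Subgroup.mem_centralizer_singleton_iff.2 (mul_inv_eq_iff_eq_mul.1 hcen).symm)⟩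
  rwa [hKP, Subgroup.mem_bot] at this

variable (P : Sylow 2 G)

/-- The hypothesis passes from the involutions to all non-identity elements. -/
theorem centralizer_le_of_involutions
    (hC : ∀ t ∈ (P : Subgroup G), orderOf t = 2 → Subgroup.centralizer ({t} : Set G) ≤ P) :
    ∀ t ∈ (P : Subgroup G), t ≠ 1 → Subgroup.centralizer ({t} : Set G) ≤ P := by
  intro t ht ht1 g hg
  haveI : Fact (Nat.Prime 2) := ⟨Nat.prime_two⟩
  obtain ⟨k, hk⟩ := IsPGroup.iff_orderOf.1 P.2 ⟨t, ht⟩
  rw [Subgroup.orderOf_mk] at hk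
  obtain ⟨m, rfl⟩ : ∃ m, k = m + 1 := ⟨k - 1, by
    rcases k with _ | k
    · exact absurd (orderOf_eq_one_iff.1 (by simpa using hk)) ht1
    · omega⟩
  have h2 : orderOf (t ^ 2 ^ m) = 2 := by
    rw [orderOf_pow' t (by positivity), hk, pow_succ, Nat.gcd_eq_right (dvd_mul_right _ _),
      Nat.mul_div_cancel_left _ (by positivity)]
  refine hC _ ((P : Subgroup G).pow_mem ht _) h2 (Subgroup.mem_centralizer_singleton_iff.2 ?_)
  exact Commute.pow_right (Subgroup.mem_centralizer_singleton_iff.1 hg) _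

set_option maxHeartbeats 1600000 in
/-- **Recognition.** -/
theorem exists_psl_two_of_index (hab : IsMulCommutative (P : Subgroup G))
    (hC : ∀ t ∈ (P : Subgroup G), orderOf t = 2 → Subgroup.centralizer ({t} : Set G) ≤ P)
    (htwo : ∃ s ∈ (P : Subgroup G), ∃ t ∈ (P : Subgroup G),
      orderOf s = 2 ∧ orderOf t = 2 ∧ s ≠ t)
    (hidx : (Subgroup.normalizer ((P : Subgroup G) : Set G)).index = Nat.card P + 1) :
    ∃ (K : Type) (_ : Field K) (_ : Fintype K), Fintype.card K = Nat.card P ∧
      Nonempty (G ≃* Matrix.ProjectiveSpecialLinearGroup (Fin 2) K) := by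
  classical
  haveI : Fact (Nat.Prime 2) := ⟨Nat.prime_two⟩
  obtain ⟨s, hs, t, ht, hs2, ht2, hst⟩ := htwo
  have hs1 : s ≠ 1 := fun e => by simp [e] at hs2
  have hCP := centralizer_le_of_involutions P hC
  letI : Fintype (Sylow 2 G) := Fintype.ofFinite _
  have hcomm : ∀ a b : G, a ∈ (P : Subgroup G) → b ∈ (P : Subgroup G) → a * b = b * a :=
    fun a b ha hb => congrArg Subtype.val (hab.is_comm.comm ⟨a, ha⟩ ⟨b, hb⟩)
  have hmove : ∀ Q : Sylow 2 G, ∃ g : G, g • P = Q := MulAction.exists_smul_eq G P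
  -- centralisers and trivial intersections
  have hTI : ∀ Q : Sylow 2 G, ∀ a ∈ (P : Subgroup G), a ≠ 1 → a ∈ (Q : Subgroup G) → Q = P := by
    intro Q a haP ha1 haQ
    obtain ⟨g, rfl⟩ := hmove Q
    rw [Sylow.coe_subgroup_smul, Subgroup.mem_pointwise_smul_iff_inv_smul_mem] at haQ
    refine Sylow.ext (Subgroup.eq_of_le_of_card_ge (fun x hx => ?_) ?_)
    · rw [Sylow.coe_subgroup_smul, Subgroup.mem_pointwise_smul_iff_inv_smul_mem] at hx
      refine hCP a haP ha1 (Subgroup.mem_centralizer_singleton_iff.2 ?_)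
      have := hcomm _ _ hx haQ
      rw [← map_inv, MulAut.smul_def, MulAut.smul_def, ← map_mul, ← map_mul] at this
      exact MulEquiv.injective _ this
    · exact le_of_eq (by rw [Sylow.card_eq_multiplicity, Sylow.card_eq_multiplicity])
  have hsemi : ∀ Q : Sylow 2 G, Q ≠ P → ∀ u ∈ (P : Subgroup G), u • Q = Q → u = 1 := by
    intro Q hQ u hu hfix
    by_contra hu1
    have h := (Sylow.smul_eq_iff_mem_normalizer).1 hfix
    have h' : u ∈ (P : Subgroup G) ⊓ Subgroup.normalizer (Q : Set G) := ⟨hu, h⟩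
    rw [P.2.inf_normalizer_sylow Q] at h'
    exact hQ (hTI Q u hu hu1 h'.2)
  have hΩ : Fintype.card (Sylow 2 G) = Nat.card P + 1 := by
    rw [← Nat.card_eq_fintype_card, Sylow.card_eq_index_normalizer P]
    exact hidx
  have hq : 2 ≤ Nat.card P := by
    haveI : Nontrivial (P : Subgroup G) :=
      ⟨⟨s, hs⟩, 1, fun e => hs1 (congrArg Subtype.val e)⟩
    exact Finite.one_lt_card
  have hPfix : ∀ u : G, u ∈ (P : Subgroup G) → u • P = P := fun u hu =>
    Sylow.smul_eq_iff_mem_normalizer.2 ((Subgroup.le_normalizer (H := (P : Subgroup G))) hu)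
  have hreg : ∀ y z : Sylow 2 G, y ≠ P → z ≠ P → ∃! u : (P : Subgroup G), (u : G) • y = z := by
    intro y z hy hz
    let f : ↥(P : Subgroup G) → {Q : Sylow 2 G // Q ≠ P} := fun u => ⟨(u : G) • y, fun e => hy (by
      rw [← inv_smul_smul (u : G) y, e]
      exact hPfix _ (inv_mem u.2))⟩
    have hinj : Function.Injective f := fun u v huv => by
      have h1 : (u : G) • y = (v : G) • y := congrArg Subtype.val huv
      have := hsemi y hy ((v : G)⁻¹ * u) (mul_mem (inv_mem v.2) u.2)
        (by rw [mul_smul, h1, inv_smul_smul])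
      exact Subtype.ext (inv_mul_eq_one.1 this).symm
    have hcard : Nat.card (P : Subgroup G) = Nat.card {Q : Sylow 2 G // Q ≠ P} := by
      rw [Nat.card_eq_fintype_card (α := {Q : Sylow 2 G // Q ≠ P}), Fintype.card_subtype_compl,
        Fintype.card_subtype_eq, hΩ, Nat.add_sub_cancel]
    obtain ⟨u, hu⟩ := (((Nat.bijective_iff_injective_and_card f).2 ⟨hinj, hcard⟩).surjective ⟨z, hz⟩)
    exact ⟨u, congrArg Subtype.val hu,
      fun v hv => hinj (Subtype.ext (hv.trans (congrArg Subtype.val hu).symm))⟩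
  haveI : Nontrivial (Sylow 2 G) := Fintype.one_lt_card_iff_nontrivial.1 (by omega)
  have h2t : MulAction.IsMultiplyPretransitive G (Sylow 2 G) 2 := by
    refine MulAction.is_two_pretransitive_iff.2 fun {a b c d} hab' hcd => ?_
    obtain ⟨g1, hg1⟩ := hmove a
    obtain ⟨g2, hg2⟩ := hmove c
    have hb : g1⁻¹ • b ≠ P := fun e => hab' (by rw [← hg1, ← e, smul_inv_smul])
    have hd : g2⁻¹ • d ≠ P := fun e => hcd (by rw [← hg2, ← e, smul_inv_smul])
    obtain ⟨u, hu, -⟩ := hreg _ _ hb hd
    refine ⟨g2 * u * g1⁻¹, ?_, ?_⟩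
    · rw [mul_smul, mul_smul, ← hg1, inv_smul_smul, hPfix _ u.2, hg2]
    · rw [mul_smul, mul_smul, hu, smul_inv_smul]
  have hthree : ∀ g : G, ∀ a b c : Sylow 2 G, a ≠ b → b ≠ c → a ≠ c →
      g • a = a → g • b = b → g • c = c → g = 1 := by
    intro g a b c hab' hbc hac ha hb hc
    obtain ⟨k, hk⟩ := hmove a
    suffices k⁻¹ * g * k = 1 by
      calc g = k * (k⁻¹ * g * k) * k⁻¹ := by group
        _ = 1 := by rw [this]; group
    set g' := k⁻¹ * g * k with hg'
    have e : ∀ x : Sylow 2 G, g • x = x → g' • (k⁻¹ • x) = k⁻¹ • x := fun x hx => by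
      rw [hg', mul_smul, mul_smul, smul_inv_smul, hx]
    have haP : k⁻¹ • a = P := by rw [← hk, inv_smul_smul]
    have hb' : k⁻¹ • b ≠ P := fun h => hab' ((MulAction.injective k⁻¹) (haP.trans h.symm))
    have hc' : k⁻¹ • c ≠ P := fun h => hac ((MulAction.injective k⁻¹) (haP.trans h.symm))
    obtain ⟨u, hu, huniq⟩ := hreg _ _ hb' hc'
    have hgN : g' ∈ Subgroup.normalizer ((P : Subgroup G) : Set G) :=
      Sylow.smul_eq_iff_mem_normalizer.1 (by have := e a ha; rwa [haP] at this)
    have hu' : g' * (u : G) * g'⁻¹ ∈ (P : Subgroup G) :=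
      (Subgroup.mem_normalizer_iff.1 hgN _).1 u.2
    have hginv : g'⁻¹ • (k⁻¹ • b) = k⁻¹ • b := inv_smul_eq_iff.2 (e b hb).symm
    have h1 : (⟨_, hu'⟩ : (P : Subgroup G)) = u := huniq _ (by
      show (g' * (u : G) * g'⁻¹) • (k⁻¹ • b) = _
      rw [mul_smul, mul_smul, hginv, hu, e c hc])
    have hu1 : (u : G) ≠ 1 := fun h => by
      rw [h, one_smul] at hu
      exact hbc (MulAction.injective k⁻¹ hu)
    have hgP : g' ∈ (P : Subgroup G) := hCP _ u.2 hu1 (Subgroup.mem_centralizer_singleton_iff.2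
      (mul_inv_eq_iff_eq_mul.1 (congrArg Subtype.val h1)))
    exact hsemi _ hb' g' hgP (e b hb)
  have hqeven : Even (Nat.card P) := by
    have : orderOf (⟨s, hs⟩ : (P : Subgroup G)) = 2 := by rw [Subgroup.orderOf_mk, hs2]
    have h := orderOf_dvd_natCard (⟨s, hs⟩ : (P : Subgroup G))
    rw [this] at h
    exact even_iff_two_dvd.2 h
  have hnoN : ∀ K : Subgroup G, K.Normal → Odd (Nat.card K) → K = ⊥ := by
    intro K hK hodd
    refine eq_bot_of_two_inverters ?_ hCP hs ht hs2 ht2 hst
    obtain ⟨n, hn⟩ := IsPGroup.iff_card.1 P.2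
    exact Subgroup.inf_eq_bot_of_coprime (by
      rw [hn]; exact Nat.Coprime.pow_right _ (Nat.coprime_two_right.2 hodd))
  haveI hF : FaithfulSMul G (Sylow 2 G) := by
    refine ⟨fun {g h} hgh => ?_⟩
    obtain ⟨a, b, hab'⟩ := exists_pair_ne (Sylow 2 G)
    obtain ⟨c, hc⟩ : ((Finset.univ : Finset (Sylow 2 G)) \ {a, b}).Nonempty := by
      rw [← Finset.card_pos, Finset.card_sdiff_of_subset (Finset.subset_univ _), Finset.card_univ,
        Finset.card_pair hab']
      omega
    obtain ⟨hca, hcb⟩ : c ≠ a ∧ c ≠ b := by simpa using hc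
    have hfix : ∀ x : Sylow 2 G, (h⁻¹ * g) • x = x := fun x => by
      rw [mul_smul, hgh, inv_smul_smul]
    exact (inv_mul_eq_one.1 (hthree _ a b c hab' hcb.symm hca.symm (hfix a) (hfix b) (hfix c))).symm
  obtain ⟨o, ho⟩ := exists_ne P
  have hstabP : stabilizer G P = Subgroup.normalizer ((P : Subgroup G) : Set G) :=
    Sylow.stabilizer_eq_normalizer P
  have hZ : Cfsg.IsZassenhausGroup G (Sylow 2 G) := by
    refine ⟨hF, h2t, hthree, ?_, ?_⟩
    · by_contra hnone
      push_neg at hnone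
      -- then the normaliser is `P` and transfer gives a normal complement
      have hN : Subgroup.normalizer ((P : Subgroup G) : Set G) ≤ (P : Subgroup G) := by
        intro g hg
        by_cases hgo : g • o = o
        · by_contra hgP
          exact hnone g (fun e => hgP (e ▸ one_mem _)) P o (Ne.symm ho)
            (Sylow.smul_eq_iff_mem_normalizer.2 hg) hgo
        · have hgo' : g • o ≠ P := fun e => ho (MulAction.injective g
            (e.trans (Sylow.smul_eq_iff_mem_normalizer.2 hg).symm))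
          obtain ⟨u, hu, -⟩ := hreg o _ ho hgo'
          by_contra hgP
          refine hnone ((u : G)⁻¹ * g) (fun e => hgP ?_) P o (Ne.symm ho) ?_ ?_
          · rw [inv_mul_eq_one] at e; rw [← e]; exact u.2
          · rw [mul_smul, Sylow.smul_eq_iff_mem_normalizer.2 hg, hPfix _ (inv_mem u.2)]
          · rw [mul_smul, ← hu, inv_smul_smul]
      have hNC : Subgroup.normalizer ((P : Subgroup G) : Set G) ≤
          Subgroup.centralizer ((P : Subgroup G) : Set G) :=
        fun g hg => Subgroup.mem_centralizer_iff.2 fun x hx => hcomm x g hx (hN hg)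
      have hcompl := MonoidHom.ker_transferSylow_isComplement' P hNC
      have hodd : Odd (Nat.card (MonoidHom.transferSylow P hNC).ker) :=
        Nat.odd_iff.2 (Nat.two_dvd_ne_zero.1 (MonoidHom.not_dvd_card_ker_transferSylow P hNC))
      have hK := hnoN _ inferInstance hodd
      have hcm := hcompl.card_mul
      rw [hK, Subgroup.card_bot, one_mul] at hcm
      have htop : (P : Subgroup G) = ⊤ := Subgroup.eq_top_of_card_eq _ hcm
      have hNtop : Subgroup.normalizer ((P : Subgroup G) : Set G) = ⊤ :=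
        top_le_iff.1 (htop ▸ (Subgroup.le_normalizer (H := (P : Subgroup G))))
      rw [hNtop, Subgroup.index_top] at hidx
      omega
    · intro N hN htr
      by_contra hno
      push_neg at hno
      have hNcard : Nat.card N = Nat.card (Sylow 2 G) := by
        haveI := htr
        have h1 := MulAction.index_stabilizer_of_transitive N P
        rw [hno P, Subgroup.index_bot] at h1
        exact h1
      have hodd : Odd (Nat.card N) := by
        rw [hNcard, Nat.card_eq_fintype_card, hΩ]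
        exact hqeven.add_one
      rw [hnoN N hN hodd, Subgroup.card_bot, Nat.card_eq_fintype_card, hΩ] at hNcard
      omega
  -- the kernel
  have hle : (P : Subgroup G) ≤ stabilizer G P := hstabP ▸ Subgroup.le_normalizer
  have hn : ((P : Subgroup G).subgroupOf (stabilizer G P)).Normal :=
    Subgroup.normal_subgroupOf_iff hle |>.2 fun x g hx hg =>
      (Subgroup.mem_normalizer_iff.1 (hstabP ▸ hg : g ∈ Subgroup.normalizer _) x).1 hx
  rcases CfsgLib.AltGroups.zassenhaus_abelian_kernel hZ ho _ hle hn hab hreg with hd | ⟨h2d, -⟩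
  swap
  · exfalso
    rw [hΩ] at h2d
    obtain ⟨m, hm⟩ := hqeven
    omega
  have hodd : Odd (Fintype.card (Sylow 2 G)) := hΩ ▸ hqeven.add_one
  obtain ⟨K, iK, jK, hK, ⟨iso⟩⟩ := CfsgLib.AltGroups.sharply_three_transitive_odd_degree (G := G)
    (Ω := Sylow 2 G) (fun p q r p' q' r' h1 h2 h3' h4 h5 h6 => by
      obtain ⟨h3t, -⟩ := CfsgLib.AltGroups.sharply_three_transitive_of_card hZ ho hd
      have emb : ∀ x y w : Sylow 2 G, x ≠ y → y ≠ w → x ≠ w → Function.Injective ![x, y, w] := by
        intro x y w hxy hyw hxw i j hij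
        fin_cases i <;> fin_cases j <;> simp_all [eq_comm]
      haveI := h3t
      obtain ⟨g, hg⟩ := MulAction.exists_smul_eq G (α := Fin 3 ↪ Sylow 2 G)
        ⟨![p, q, r], emb p q r h1 h2 h3'⟩ ⟨![p', q', r'], emb p' q' r' h4 h5 h6⟩
      refine ⟨g, ⟨DFunLike.congr_fun hg 0, DFunLike.congr_fun hg 1, DFunLike.congr_fun hg 2⟩,
        fun k hk => ?_⟩
      refine (inv_mul_eq_one.1 (hthree (g⁻¹ * k) p q r h1 h2 h3' ?_ ?_ ?_)).symm
      · rw [mul_smul, hk.1, inv_smul_eq_iff]; exact (DFunLike.congr_fun hg 0).symm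
      · rw [mul_smul, hk.2.1, inv_smul_eq_iff]; exact (DFunLike.congr_fun hg 1).symm
      · rw [mul_smul, hk.2.2, inv_smul_eq_iff]; exact (DFunLike.congr_fun hg 2).symm)
    hodd (by omega)
  have hKc : Fintype.card K = Nat.card P := by omega
  exact ⟨K, iK, jK, hKc, ⟨iso.trans (MulEquiv.ofBijective _
    (CfsgLib.SharplyEven.SimpleZassenhaus.toPGL_bijective_of_even (hKc ▸ hqeven))).symm⟩⟩

end CfsgLib.AbelianTwo
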