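import Cfsg.Agent.Lib.AbelianTwo.SingularCount
import Cfsg.Agent.Lib.AbelianTwo.Count
import Cfsg.Agent.Lib.AbelianTwo.Homocyclic
import Cfsg.Agent.Lib.AbelianTwo.HomocyclicGroup
import Cfsg.Agent.Lib.AbelianTwo.Recognition
import Cfsg.Agent.Lib.Involutions.ZStar

/-!
Groups with abelian Sylow 2-subgroup of rank at least three, 2-nilpotent centralizers of
involutions, trivial odd core and commutative outer quotient are `PSL(2, |P|)` unless `P` is
normal.
-/

set_option autoImplicit false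
set_option linter.unusedSectionVars false
set_option linter.style.haveILetI false

open Cfsg CfsgLib.TwoFusion CfsgLib.Involutions CfsgLib.CharTheory

namespace CfsgLib.AbelianTwo

universe u

variable {G : Type u} [Group G] [Fintype G]

local notation "θ" => Cfsg.centralizerPPrimeCore 2
local notation "CG(" x ")" => Subgroup.centralizer ({x} : Set _)

/-- The elements `g` with `g x g⁻¹` satisfying a property. -/
theorem card_filter_conj {x : G} (p : G → Prop) :
    Nat.card {g : G // p (g * x * g⁻¹)} =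
      Nat.card {t : G // IsConj x t ∧ p t} * Nat.card CG(x) := by
  classical
  choose c hc using fun t : {t : G // IsConj x t ∧ p t} => isConj_iff.1 t.2.1
  let f : {t : G // IsConj x t ∧ p t} × CG(x) → {g : G // p (g * x * g⁻¹)} := fun a =>
    ⟨c a.1 * (a.2 : G), by
      have e : c a.1 * (a.2 : G) * x * (c a.1 * (a.2 : G))⁻¹ = (a.1 : G) := by
        calc c a.1 * (a.2 : G) * x * (c a.1 * (a.2 : G))⁻¹
            = c a.1 * ((a.2 : G) * x) * (a.2 : G)⁻¹ * (c a.1)⁻¹ := by group
          _ = c a.1 * x * (c a.1)⁻¹ := by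
            rw [Subgroup.mem_centralizer_singleton_iff.1 a.2.2]; group
          _ = (a.1 : G) := hc a.1
      rw [e]; exact a.1.2.2⟩
  rw [← Nat.card_prod]
  refine (Nat.card_congr (Equiv.ofBijective f ⟨?_, ?_⟩)).symm
  · rintro ⟨t, d⟩ ⟨t', d'⟩ e
    have e' : c t * (d : G) = c t' * (d' : G) := congrArg Subtype.val e
    have key : ∀ (s : {t : G // IsConj x t ∧ p t}) (k : CG(x)),
        c s * (k : G) * x * (c s * (k : G))⁻¹ = (s : G) := fun s k => by
      calc c s * (k : G) * x * (c s * (k : G))⁻¹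
          = c s * ((k : G) * x) * (k : G)⁻¹ * (c s)⁻¹ := by group
        _ = c s * x * (c s)⁻¹ := by
          rw [Subgroup.mem_centralizer_singleton_iff.1 k.2]; group
        _ = (s : G) := hc s
    have e1 : t = t' := Subtype.ext (by rw [← key t d, e', key t' d'])
    subst e1
    exact Prod.ext rfl (Subtype.ext (mul_left_cancel e'))
  · rintro ⟨g, hg⟩
    have ht : IsConj x (g * x * g⁻¹) := isConj_iff.2 ⟨g, rfl⟩
    refine ⟨(⟨_, ht, hg⟩, ⟨(c ⟨_, ht, hg⟩)⁻¹ * g,
      Subgroup.mem_centralizer_singleton_iff.2 ?_⟩), Subtype.ext ?_⟩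
    · have e := hc ⟨_, ht, hg⟩
      calc (c ⟨_, ht, hg⟩)⁻¹ * g * x = (c ⟨_, ht, hg⟩)⁻¹ * (g * x * g⁻¹) * g := by group
        _ = (c ⟨_, ht, hg⟩)⁻¹ * (c ⟨_, ht, hg⟩ * x * (c ⟨_, ht, hg⟩)⁻¹) * g := by rw [e]
        _ = x * ((c ⟨_, ht, hg⟩)⁻¹ * g) := by group
    · show c _ * ((c _)⁻¹ * g) = g
      rw [mul_inv_cancel_left]

namespace Hyp

variable {P : Sylow 2 G} (h : Hyp P)
include h

open scoped Classical in
theorem secFun_conj_mul (hP : ¬ (P : Subgroup G).Normal)
    (hel : ∀ a ∈ (P : Subgroup G), a * a = 1) {x : G} (hxP : x ∈ (P : Subgroup G))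
    (hx : orderOf x = 2) (g : G) :
    secFun x (g * x * g⁻¹ * x) =
      if ¬ Odd (orderOf (g * x * g⁻¹ * x)) then (Nat.card CG(x) : ℂ) else 0 := by
  rw [secFun, Finset.sum_boole, ← Fintype.card_subtype, ← Nat.card_eq_fintype_card]
  by_cases ho : Odd (orderOf (g * x * g⁻¹ * x))
  · rw [if_neg (not_not.2 ho), h.card_section_odd hx ho, Nat.cast_zero]
  · rw [if_pos ho]
    have h1 := ((h.singular_iff hP hxP hx _).1 ⟨isConj_iff.2 ⟨g, rfl⟩, ho⟩).1.1
    rw [h.card_section hP hel hxP hx (mul_mem h1 (Subgroup.mem_sup_right hxP)) ho]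

open scoped Classical in
theorem sum_secFun (hP : ¬ (P : Subgroup G).Normal) (hel : ∀ a ∈ (P : Subgroup G), a * a = 1)
    {x : G} (hxP : x ∈ (P : Subgroup G)) (hx : orderOf x = 2) :
    ∑ g : G, secFun x (g * x * g⁻¹ * x) =
      ((Nat.card {t : G // IsConj x t ∧ ¬ Odd (orderOf (t * x))} * Nat.card CG(x) *
        Nat.card CG(x) : ℕ) : ℂ) := by
  rw [Finset.sum_congr rfl fun g _ => h.secFun_conj_mul hP hel hxP hx g, ← Finset.sum_filter,
    Finset.sum_const, nsmul_eq_mul, Nat.cast_mul (_ * _) _]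
  congr 1
  rw [← card_filter_conj fun t => ¬ Odd (orderOf (t * x)), ← Fintype.card_subtype,
    ← Nat.card_eq_fintype_card]

variable {Mi : Ideal AlgInt} (hM : IsPModular 2 Mi)
include hM

open scoped Classical in
/-- The cubes of the column of `x`. -/
theorem sum_cube (hP : ¬ (P : Subgroup G).Normal) (hel : ∀ a ∈ (P : Subgroup G), a * a = 1)
    {x : G} (hxP : x ∈ (P : Subgroup G)) (hx : orderOf x = 2) [Fintype (IrrCharacter G)] :
    ((bigSub h).index : ℂ) * ((Nat.card (P : Subgroup G) - 1 : ℕ) : ℂ) *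
      (∑ χ : IrrCharacter G, if χ ∈ principalBlock Mi G then
        (χ : G → ℂ) x ^ 3 / (χ : G → ℂ) 1 else 0) =
    ((Nat.card (P : Subgroup G) * (Nat.card (P : Subgroup G) - 2) : ℕ) : ℂ) := by
  have e1 := h.sum_secFun hP hel hxP hx
  have e2 : ∑ g : G, secFun x (g * x * g⁻¹ * x) = (Nat.card (θ x) : ℂ) * (Nat.card G : ℂ) *
      ∑ χ : IrrCharacter G, if χ ∈ principalBlock Mi G then
        (χ : G → ℂ) x ^ 3 / (χ : G → ℂ) 1 else 0 := by
    rw [Finset.sum_congr rfl fun g _ => h.secFun_eq hM hxP hx (g * x * g⁻¹ * x), Finset.sum_comm,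
      Finset.mul_sum]
    refine Finset.sum_congr rfl fun χ _ => ?_
    split_ifs
    · rw [← Finset.mul_sum, sum_conj_mul_eq]
      ring
    · simp
  rw [e2] at e1
  have hsing := h.card_singular hP hel hxP hx
  have hG : Nat.card G = (bigSub h).index * ((Nat.card (P : Subgroup G) - 1) *
      Nat.card (coreClosure h) * Nat.card (P : Subgroup G)) := by
    rw [← h.card_bigSub_eq hP hel, Subgroup.index_mul_card]
  rw [h.card_centralizer hxP hx, hG] at e1
  generalize hn : Nat.card {t : G // IsConj x t ∧ ¬ Odd (orderOf (t * x))} = n at e1 hsing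
  generalize hS : (∑ χ : IrrCharacter G, if χ ∈ principalBlock Mi G then
        (χ : G → ℂ) x ^ 3 / (χ : G → ℂ) 1 else 0) = S at e1 ⊢
  have hs : ((n * Nat.card (θ x) : ℕ) : ℂ) =
      (((Nat.card (P : Subgroup G) - 2) * Nat.card (coreClosure h) : ℕ) : ℂ) := by rw [hsing]
  push_cast at e1 hs ⊢
  refine mul_left_cancel₀ (a := (Nat.card (θ x) : ℂ) * (Nat.card (coreClosure h) : ℂ) *
    (Nat.card (P : Subgroup G) : ℂ)) ?_ ?_
  · simp only [ne_eq, mul_eq_zero, Nat.cast_eq_zero]
    have := Nat.card_pos (α := θ x)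
    have := Nat.card_pos (α := coreClosure h)
    have := Nat.card_pos (α := (P : Subgroup G))
    omega
  linear_combination e1 +
    (Nat.card (θ x) : ℂ) * (Nat.card (P : Subgroup G) : ℂ) * (Nat.card (P : Subgroup G) : ℂ) * hs

/-- The index of `W N(P)` is at most `|P| + 1`. -/
theorem index_le (hP : ¬ (P : Subgroup G).Normal) (hel : ∀ a ∈ (P : Subgroup G), a * a = 1)
    (hc : OuterComm h) : (bigSub h).index ≤ Nat.card (P : Subgroup G) + 1 := by
  classical
  haveI := Blocks.isPrime_of_isPModular hM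
  haveI := Fintype.ofFinite (IrrCharacter G)
  obtain ⟨x, hxP, hx⟩ := h.exists_involution
  have hq8 : 8 ≤ Nat.card (P : Subgroup G) := by
    obtain ⟨E, hE, -, h8⟩ := h.rank
    exact h8.trans (Subgroup.card_le_of_le hE)
  have hcol := h.column hM hP hel hc hxP hx
  set q := Nat.card (P : Subgroup G) with hqdef
  set m := (bigSub h).index with hmdef
  have hm0 : 0 < m := Nat.pos_of_ne_zero Subgroup.index_ne_zero_of_finite
  choose a ha using fun χ : IrrCharacter G => BlockLocal.exists_int_apply_involution χ hx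
  set b := fun χ : IrrCharacter G => charDegree (χ : G → ℂ) with hb
  set B := Finset.univ.filter fun χ : IrrCharacter G => χ ∈ principalBlock Mi G with hB
  have hBcard : B.card = q := by
    rw [hqdef, ← h.card_principalBlock hM hP hel hc]
    exact (Nat.subtype_card _ (fun χ => by simp [hB])).symm
  set I := (Set.range (h.inducedIrr hP)).toFinite.toFinset with hI
  have hIcard : I.card = Nat.card (Set.range (h.inducedIrr hP)) := by
    rw [Nat.card_coe_set_eq, Set.ncard_eq_toFinset_card]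
  have hI2 : q ≤ 2 * I.card + 2 := by
    rw [hIcard, hqdef, ← h.card_outerChar hP hel hc]
    exact Nat.add_le_add_right (h.card_outerChar_le hP) 2
  have htI : trivIrr G ∉ I := fun e => by
    obtain ⟨l, hl⟩ := (Set.Finite.mem_toFinset _).1 e
    exact h.classInner_inducedIrr_triv hP l hl
  have hsub : insert (trivIrr G) I ⊆ B := fun χ hχ => by
    refine Finset.mem_filter.2 ⟨Finset.mem_univ _, ?_⟩
    rcases Finset.mem_insert.1 hχ with rfl | e
    · exact BlockLocal.trivIrr_mem_principalBlock G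
    · obtain ⟨l, rfl⟩ := (Set.Finite.mem_toFinset _).1 e
      exact h.inducedIrr_mem hM hP l
  set R := B \ insert (trivIrr G) I with hR
  have hRcard : R.card + I.card + 1 = q := by
    have e := Finset.card_sdiff_add_card_eq_card hsub
    rw [Finset.card_insert_of_notMem htI, hBcard, ← hR] at e
    omega
  -- the identity over the reals
  set f := fun χ : IrrCharacter G => (a χ : ℝ) ^ 3 / (b χ : ℝ) with hf
  have hid : (m : ℝ) * ((q - 1 : ℕ) : ℝ) * ∑ χ ∈ B, f χ = ((q * (q - 2) : ℕ) : ℝ) := by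
    have e := h.sum_cube hM hP hel hxP hx
    rw [← Finset.sum_filter, ← hB] at e
    simp only [ha, ← Blocks.charDegree_cast] at e
    apply Complex.ofReal_injective
    simp only [hf, hb]
    push_cast
    push_cast at e
    exact e
  have hfT : f (trivIrr G) = 1 := by
    have e1 : (a (trivIrr G) : ℂ) = 1 := by rw [← ha, trivIrr_apply]
    have e2 : (b (trivIrr G) : ℂ) = 1 := by
      simp only [hb]; rw [Blocks.charDegree_cast, trivIrr_apply]
    simp only [hf]
    rw [show a (trivIrr G) = 1 from by exact_mod_cast e1, show b (trivIrr G) = 1 from by exact_mod_cast e2]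
    norm_num
  have hfI : ∀ χ ∈ I, f χ = 1 / (m : ℝ) := fun χ hχ => by
    obtain ⟨l, rfl⟩ := (Set.Finite.mem_toFinset _).1 hχ
    have e1 : (a (h.inducedIrr hP l) : ℂ) = 1 := by rw [← ha, h.inducedIrr_apply_self hP l hxP hx]
    have e2 : (b (h.inducedIrr hP l) : ℂ) = (m : ℂ) := by
      simp only [hb]; rw [Blocks.charDegree_cast, h.inducedIrr_apply_one hP l]
    simp only [hf]
    rw [show a (h.inducedIrr hP l) = 1 from by exact_mod_cast e1,
      show b (h.inducedIrr hP l) = m from by exact_mod_cast e2]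
    norm_num
  have hfR : ∀ χ ∈ R, -1 / ((q - 1 : ℕ) : ℝ) ≤ f χ := fun χ hχ => by
    obtain ⟨hχB, hχn⟩ := Finset.mem_sdiff.1 hχ
    have hχ' := (hcol.2 χ (Finset.mem_filter.1 hχB).2 (fun e => hχn (Finset.mem_insert.2 (Or.inl e)))
      fun l e => hχn (Finset.mem_insert.2 (Or.inr ((Set.Finite.mem_toFinset _).2 ⟨l, e⟩)))).1
    have e1 : a χ = -1 := by
      rw [ha] at hχ'; exact_mod_cast hχ'
    have hdvd := h.degree_congr hM hP hel χ hxP hx (ha χ)
    rw [e1, sub_neg_eq_add, ← hqdef] at hdvd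
    have hle : q ≤ b χ + 1 := by
      have := Int.le_of_dvd (by omega) hdvd
      show q ≤ charDegree (χ : G → ℂ) + 1
      omega
    simp only [hf]
    rw [e1]
    have h1 : (0 : ℝ) < ((q - 1 : ℕ) : ℝ) := by exact_mod_cast (show 0 < q - 1 by omega)
    have h2 : ((q - 1 : ℕ) : ℝ) ≤ (b χ : ℝ) := by exact_mod_cast (show q - 1 ≤ b χ by omega)
    push_cast
    rw [div_le_div_iff₀ h1 (h1.trans_le h2)]
    nlinarith
  have hsum : ∑ χ ∈ B, f χ = ∑ χ ∈ R, f χ + ((I.card : ℝ) / m + 1) := by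
    rw [← Finset.sum_sdiff hsub, ← hR, Finset.sum_insert htI, hfT, Finset.sum_congr rfl hfI,
      Finset.sum_const, nsmul_eq_mul]
    ring
  have hlow : (R.card : ℝ) * (-1 / ((q - 1 : ℕ) : ℝ)) ≤ ∑ χ ∈ R, f χ := by
    simpa using Finset.card_nsmul_le_sum R f _ hfR
  rw [hsum] at hid
  have hq1 : ((q - 1 : ℕ) : ℝ) = (q : ℝ) - 1 := by rw [Nat.cast_sub (by omega)]; norm_num
  have hq2 : ((q * (q - 2) : ℕ) : ℝ) = (q : ℝ) * ((q : ℝ) - 2) := by
    rw [Nat.cast_mul, Nat.cast_sub (by omega)]; norm_num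
  have hRr : (R.card : ℝ) = (q : ℝ) - 1 - (I.card : ℝ) := by
    have : (R.card : ℝ) + I.card + 1 = q := by exact_mod_cast hRcard
    linarith
  have hIr : (q : ℝ) ≤ 2 * (I.card : ℝ) + 2 := by exact_mod_cast hI2
  have hm0' : (0 : ℝ) < m := by exact_mod_cast hm0
  have hq0 : (8 : ℝ) ≤ q := by exact_mod_cast hq8
  rw [hq1] at hid hlow
  rw [hq2] at hid
  have key : (I.card : ℝ) * ((m : ℝ) + q - 1) ≤ (q : ℝ) * ((q : ℝ) - 2) := by
    have h3 := mul_le_mul_of_nonneg_left hlow (mul_nonneg hm0'.le (by linarith : (0 : ℝ) ≤ (q : ℝ) - 1))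
    have h4 : (m : ℝ) * ((q : ℝ) - 1) * ((R.card : ℝ) * (-1 / ((q : ℝ) - 1))) =
        -((m : ℝ) * R.card) := by
      have : ((q : ℝ) - 1) ≠ 0 := by linarith
      field_simp
    have h5 : (m : ℝ) * ((q : ℝ) - 1) * ((I.card : ℝ) / m + 1) =
        ((q : ℝ) - 1) * I.card + (m : ℝ) * ((q : ℝ) - 1) := by
      field_simp
      try ring
    rw [mul_add, h5] at hid
    rw [h4, hRr] at h3
    linarith
  have key2 : ((q : ℝ) - 2) * ((m : ℝ) + q - 1) ≤ ((q : ℝ) - 2) * (2 * q) := by
    nlinarith [mul_le_mul_of_nonneg_right hIr (by linarith : (0 : ℝ) ≤ (m : ℝ) + q - 1)]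
  have key3 := le_of_mul_le_mul_left key2 (by linarith)
  exact_mod_cast (by linarith : (m : ℝ) ≤ q + 1)

omit hM

/-- The index of `W N(P)` is `|P| + 1`. -/
theorem index_eq (hP : ¬ (P : Subgroup G).Normal) (hc : OuterComm h) :
    (bigSub h).index = Nat.card (P : Subgroup G) + 1 := by
  obtain ⟨Mi, hM⟩ := Blocks.exists_isPModular_of_prime Nat.prime_two
  have h1 := h.index_le hM hP (fun a ha => h.mul_self_eq_one_of_not_normal hP ha) hc
  have h2 := h.card_lt_index hP
  omega

theorem coreClosure_eq_bot (hP : ¬ (P : Subgroup G).Normal) (hc : OuterComm h) :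
    coreClosure h = ⊥ := by
  classical
  have hSE := h.stronglyEmbedded hP
  have hPM : (P : Subgroup G) ≤ bigSub h := Subgroup.le_normalizer.trans le_sup_right
  have hidx := h.index_eq hP hc
  have hout : ∀ g : G, g ∉ bigSub h → ∀ y ∈ bigSub h, g⁻¹ * y * g ∈ bigSub h → Odd (orderOf y) :=
    fun g hg y hy hy' => (hSE.2.2 g hg).of_dvd_nat
      (Subgroup.orderOf_dvd_natCard _ ⟨hy, Involutions.mem_map_conj.2 hy'⟩)
  have hsep : ∀ g : G, g ∉ bigSub h → ∀ y ∈ (P : Subgroup G), g⁻¹ * y * g ∈ bigSub h → y = 1 := by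
    intro g hg y hy hy'
    obtain ⟨k, hk⟩ := h.exists_pow_orderOf hy
    have ho := hout g hg y (hPM hy) hy'
    rw [hk] at ho
    cases k with
    | zero => rw [pow_zero, orderOf_eq_one_iff] at hk; exact hk
    | succ k => exact absurd (even_iff_two_dvd.2 ⟨2 ^ k, pow_succ' 2 k⟩) (Nat.not_even_iff_odd.2 ho)
  have hfix : ∀ g : G, g ∉ bigSub h → ∀ w ∈ coreClosure h, g⁻¹ * w * g ∈ bigSub h := by
    intro g hg w hw
    let f : Option (P : Subgroup G) → G ⧸ bigSub h := fun o => match o with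
      | none => ((1 : G) : G ⧸ bigSub h)
      | some v => (((v : G) * g : G) : G ⧸ bigSub h)
    have hne : ∀ v ∈ bigSub h, ((1 : G) : G ⧸ bigSub h) ≠ ((v * g : G) : G ⧸ bigSub h) := by
      intro v hv e
      rw [QuotientGroup.eq, inv_one, one_mul, Subgroup.mul_mem_cancel_left _ hv] at e
      exact hg e
    have hinj : Function.Injective f := by
      rintro (_ | a) (_ | b) e
      · rfl
      · exact absurd e (hne b (hPM b.2))
      · exact absurd e.symm (hne a (hPM a.2))
      · have e1 := QuotientGroup.eq.1 e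
        rw [mul_inv_rev, show g⁻¹ * (a : G)⁻¹ * ((b : G) * g) = g⁻¹ * ((a : G)⁻¹ * b) * g by group]
          at e1
        exact congrArg some (Subtype.ext (inv_mul_eq_one.1
          (hsep g hg _ (mul_mem (inv_mem a.2) b.2) e1)))
    have hbij : Function.Bijective f := by
      haveI := Fintype.ofFinite (Option (P : Subgroup G))
      haveI := Fintype.ofFinite (G ⧸ bigSub h)
      refine (Fintype.bijective_iff_injective_and_card f).2 ⟨hinj, ?_⟩
      rw [← Nat.card_eq_fintype_card, ← Nat.card_eq_fintype_card, Finite.card_option,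
        ← Subgroup.index_eq_card, hidx]
    have hwM : w ∈ bigSub h := Subgroup.mem_sup_left hw
    obtain ⟨o, ho⟩ := hbij.2 ((w * g : G) : G ⧸ bigSub h)
    rcases o with _ | v
    · exact absurd ho (hne w hwM)
    have e1 := QuotientGroup.eq.1 ho
    rw [mul_inv_rev, show g⁻¹ * (v : G)⁻¹ * (w * g) = g⁻¹ * ((v : G)⁻¹ * w) * g by group] at e1
    have hin : (v : G)⁻¹ * w ∈ innerSub h :=
      mul_mem (inv_mem (Subgroup.mem_sup_right v.2)) (Subgroup.mem_sup_left hw)
    have hW := h.mem_coreClosure_of_odd hin (hout g hg _ (h.innerSub_le_bigSub hin) e1)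
    have hvW : (v : G)⁻¹ ∈ coreClosure h ⊓ (P : Subgroup G) :=
      Subgroup.mem_inf.2 ⟨(Subgroup.mul_mem_cancel_right _ hw).1 hW, inv_mem v.2⟩
    rw [h.inf_coreClosure, Subgroup.mem_bot] at hvW
    rwa [hvW, one_mul] at e1
  have hK : coreClosure h ≤ (bigSub h).normalCore := by
    intro w hw g
    by_cases hg : g⁻¹ ∈ bigSub h
    · exact mul_mem (mul_mem (inv_mem_iff.1 hg) (Subgroup.mem_sup_left hw)) hg
    · have := hfix g⁻¹ hg w hw
      rwa [inv_inv] at this
  obtain ⟨g, -, hg⟩ := SetLike.exists_of_lt (lt_top_iff_ne_top.2 hSE.1)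
  have hKodd : Odd (Nat.card (bigSub h).normalCore) := by
    refine (hSE.2.2 g hg).of_dvd_nat (Subgroup.card_dvd_of_le fun y hy => ⟨?_, ?_⟩)
    · exact Subgroup.normalCore_le _ hy
    · refine Involutions.mem_map_conj.2 (Subgroup.normalCore_le _ ?_)
      have := (Subgroup.normalCore_normal (bigSub h)).conj_mem y hy g⁻¹
      rwa [inv_inv] at this
  have hle : (bigSub h).normalCore ≤ oddCore G :=
    le_sSup ⟨Subgroup.normalCore_normal _, Nat.coprime_two_right.2 hKodd⟩
  rw [h.core, le_bot_iff] at hle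
  rw [← le_bot_iff, ← hle]
  exact hK

/-- **Recognition of `PSL(2, 2^n)`.** -/
theorem exists_psl_two (hP : ¬ (P : Subgroup G).Normal) (hc : OuterComm h) :
    ∃ (K : Type) (_ : Field K) (_ : Fintype K), Fintype.card K = Nat.card P ∧
      Nonempty (G ≃* Matrix.ProjectiveSpecialLinearGroup (Fin 2) K) := by
  have hW := h.coreClosure_eq_bot hP hc
  have hin : innerSub h = (P : Subgroup G) := by rw [innerSub, hW, bot_sup_eq]
  refine exists_psl_two_of_index P ⟨⟨fun a b => Subtype.ext (h.comm a a.2 b b.2)⟩⟩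
    (fun t ht ht2 => (h.centralizer_le_innerSub ht ht2).trans hin.le) ?_ ?_
  · obtain ⟨E, hE, hsq, h8⟩ := h.rank
    haveI : Nontrivial E := (Finite.one_lt_card_iff_nontrivial).1 (by omega)
    obtain ⟨s, hs⟩ := exists_ne (1 : E)
    have hex : ∃ t : E, t ≠ 1 ∧ t ≠ s := by
      by_contra hcon
      push Not at hcon
      classical
      haveI := Fintype.ofFinite E
      have h2 : (Finset.univ : Finset E) ⊆ {(1 : E), s} := fun t _ => by
        rcases em (t = 1) with e | e
        · simp [e]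
        · simp [hcon t e]
      have := (Finset.card_le_card h2).trans Finset.card_le_two
      rw [Finset.card_univ, ← Nat.card_eq_fintype_card] at this
      omega
    obtain ⟨t, ht1, hts⟩ := hex
    exact ⟨s, hE s.2, t, hE t.2,
      orderOf_eq_two_iff.2 ⟨hsq _ s.2, fun e => hs (Subtype.ext e)⟩,
      orderOf_eq_two_iff.2 ⟨hsq _ t.2, fun e => ht1 (Subtype.ext e)⟩,
      fun e => hts (Subtype.ext e.symm)⟩
  · have := h.index_eq hP hc
    rwa [bigSub, hW, bot_sup_eq] at this

end Hyp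

end CfsgLib.AbelianTwo
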