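import Cfsg.Agent.Lib.AbelianTwo.Induced
import Cfsg.Agent.Lib.Involutions.SectionAverage
import Cfsg.Agent.Lib.BlockLocal.KleinFour
import Cfsg.Agent.Lib.Correspondences.RealIrr
import Cfsg.Agent.Lib.Blocks.DefectZero
import Mathlib.GroupTheory.FiniteAbelian.Duality

/-!
The principal 2-block of a group with abelian Sylow 2-subgroup of rank at least three and
2-nilpotent centralizers of involutions: the column of an involution.
-/

set_option autoImplicit false
set_option linter.unusedSectionVars false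
set_option linter.style.haveILetI false

open Cfsg CfsgLib.TwoFusion CfsgLib.Involutions CfsgLib.CharTheory CfsgLib.RealChar
open scoped ComplexConjugate

namespace CfsgLib.AbelianTwo

universe u

variable {G : Type u} [Group G] [Finite G]

local notation "θ" => Cfsg.centralizerPPrimeCore 2
local notation "CG(" x ")" => Subgroup.centralizer ({x} : Set _)

/-- In a group with an elementary abelian Sylow 2-subgroup no element has order divisible by
four. -/
theorem not_four_dvd {P : Sylow 2 G} (hel : ∀ g ∈ (P : Subgroup G), g * g = 1) (g : G) :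
    ¬ 4 ∣ orderOf g := by
  haveI : Fact (Nat.Prime 2) := ⟨Nat.prime_two⟩
  rintro ⟨m, hm⟩
  have hpos := orderOf_pos g
  have ho : orderOf (g ^ m) = 4 := by
    rw [orderOf_pow' g (by omega), hm, Nat.gcd_eq_right (dvd_mul_left _ _),
      Nat.mul_div_cancel _ (by omega)]
  obtain ⟨Q, hQ⟩ := (IsPGroup.of_card (p := 2) (G := Subgroup.zpowers (g ^ m)) (n := 2)
    (by rw [Nat.card_zpowers, ho]; norm_num)).exists_le_sylow
  obtain ⟨c, hc⟩ := MulAction.exists_smul_eq G Q P
  have h1 : c * g ^ m * c⁻¹ ∈ (P : Subgroup G) := by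
    rw [← hc, Sylow.coe_subgroup_smul, Subgroup.mem_pointwise_smul_iff_inv_smul_mem,
      MulAut.smul_def, MulAut.conj_inv_apply]
    simpa [mul_assoc] using hQ (Subgroup.mem_zpowers _)
  have h2 := orderOf_dvd_of_pow_eq_one (show (c * g ^ m * c⁻¹) ^ 2 = 1 by rw [pow_two]; exact hel _ h1)
  rw [orderOf_conj, ho] at h2
  norm_num at h2

namespace Hyp

variable {P : Sylow 2 G} (h : Hyp P)
include h

theorem solvable_centralizer {x : G} (hxP : x ∈ (P : Subgroup G)) (hx : orderOf x = 2) :
    Group.IsSolvable CG(x) := by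
  set N := pPrimeCore 2 CG(x)
  haveI : N.Normal := Subgroup.sSup_normal _ fun _ hN => hN.1
  have hN : Nat.card N = Nat.card (θ x) := by
    rw [centralizerPPrimeCore, Subgroup.card_map_of_injective (CG(x)).subtype_injective]
  haveI : Group.IsSolvable N := Cfsg.Agent.S0205.result (hN ▸ Signalizer.ScnThree.odd_card_theta x)
  haveI : Fact (Nat.Prime 2) := ⟨Nat.prime_two⟩
  obtain ⟨k, hk⟩ := IsPGroup.iff_card.1 P.isPGroup'
  have hq : Nat.card (CG(x) ⧸ N) = 2 ^ k := by
    refine Nat.eq_of_mul_eq_mul_right (Nat.card_pos (α := N)) ?_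
    rw [← Subgroup.card_eq_card_quotient_mul_card_subgroup, h.card_centralizer hxP hx, hk, hN,
      mul_comm]
  haveI := (IsPGroup.of_card hq).isNilpotent
  haveI : Group.IsSolvable (CG(x) ⧸ N) := inferInstance
  exact Group.isSolvable_of_ker_le_range N.subtype (QuotientGroup.mk' N) (by simp)

variable [Fintype G] {Mi : Ideal AlgInt} (hM : IsPModular 2 Mi)
include hM

theorem apply_mul_core {χ : IrrCharacter G} (hχ : χ ∈ principalBlock Mi G) {x : G}
    (hxP : x ∈ (P : Subgroup G)) (hx : orderOf x = 2) {o : G} (ho : o ∈ θ x) :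
    (χ : G → ℂ) (x * o) = (χ : G → ℂ) x := by
  haveI : Fact (Nat.Prime 2) := ⟨Nat.prime_two⟩
  haveI := Blocks.isPrime_of_isPModular hM
  have hodd : ¬ 2 ∣ orderOf o := fun e => Nat.not_even_iff_odd.2
    ((Signalizer.ScnThree.odd_card_theta x).of_dvd_nat (Subgroup.orderOf_dvd_natCard _ ho))
    (even_iff_two_dvd.2 e)
  have := Involutions.apply_coset_eq hM hχ (k := 1) (by rw [hx]; norm_num) (ne_one hx)
    (y := 1) (o := o) (Commute.one_right x) (by simp) (by simpa using hodd) ho
  simpa using this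

theorem sum_core_eq_zero {χ : IrrCharacter G} (hχ : χ ∉ principalBlock Mi G) {x : G}
    (hxP : x ∈ (P : Subgroup G)) (hx : orderOf x = 2) [Fintype (θ x)] :
    ∑ o : θ x, (χ : G → ℂ) (x * (o : G)) = 0 := by
  haveI : Fact (Nat.Prime 2) := ⟨Nat.prime_two⟩
  haveI := Blocks.isPrime_of_isPModular hM
  haveI := h.solvable_centralizer hxP hx
  simpa using Involutions.sum_coset_section_eq_zero hM hχ (z := x) ⟨1, by rw [hx]; norm_num⟩
    (y := 1) (one_mem _) (by simp)

open scoped Classical in
/-- The average of a character over `x O(C(x))`. -/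
theorem sum_core {x : G} (hxP : x ∈ (P : Subgroup G)) (hx : orderOf x = 2) [Fintype (θ x)]
    (χ : IrrCharacter G) :
    ∑ o : θ x, (χ : G → ℂ) (x * (o : G)) =
      if χ ∈ principalBlock Mi G then (Nat.card (θ x) : ℂ) * (χ : G → ℂ) x else 0 := by
  split_ifs with hχ
  · rw [Finset.sum_congr rfl fun o _ => h.apply_mul_core hM hχ hxP hx o.2, Finset.sum_const,
      Finset.card_univ, nsmul_eq_mul, ← Nat.card_eq_fintype_card]
  · exact h.sum_core_eq_zero hM hχ hxP hx

end Hyp

open scoped Classical in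
/-- The number of elements conjugating `g` into `x O(C(x))`. -/
noncomputable def secFun [Fintype G] (x g : G) : ℂ :=
  ∑ z : G, if x⁻¹ * (z⁻¹ * g * z) ∈ θ x then (1 : ℂ) else 0

theorem isClassFunction_secFun [Fintype G] (x : G) : IsClassFunction G (secFun x) := by
  classical
  intro a b
  unfold secFun
  refine Fintype.sum_equiv (Equiv.mulLeft b⁻¹) _ _ fun z => ?_
  simp only [Equiv.coe_mulLeft, mul_inv_rev, inv_inv]
  group

namespace Hyp

variable {P : Sylow 2 G} (h : Hyp P)
include h

variable [Fintype G] {Mi : Ideal AlgInt} (hM : IsPModular 2 Mi)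
include hM

open scoped Classical in
theorem classInner_secFun {x : G} (hxP : x ∈ (P : Subgroup G)) (hx : orderOf x = 2)
    (χ : IrrCharacter G) :
    classInner (secFun x) (χ : G → ℂ) =
      if χ ∈ principalBlock Mi G then (Nat.card (θ x) : ℂ) * (χ : G → ℂ) x else 0 := by
  haveI := Fintype.ofFinite (θ x)
  have hreal : conj ((χ : G → ℂ) x) = (χ : G → ℂ) x := by
    obtain ⟨a, ha⟩ := BlockLocal.exists_int_apply_involution χ hx
    rw [ha, map_intCast]
  have key : ∀ z : G, ∑ g : G, (if x⁻¹ * (z⁻¹ * g * z) ∈ θ x then (1 : ℂ) else 0) *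
      conj ((χ : G → ℂ) g) = conj (∑ o : θ x, (χ : G → ℂ) (x * (o : G))) := by
    intro z
    rw [map_sum]
    symm
    refine Finset.sum_of_injOn (fun o : θ x => z * (x * (o : G)) * z⁻¹) ?_
      (fun _ _ => Finset.mem_univ _) ?_ ?_
    · intro a _ b _ e
      exact Subtype.ext (mul_left_cancel (mul_left_cancel (mul_right_cancel e)))
    · intro g _ hg
      rw [if_neg, zero_mul]
      intro e
      exact hg ⟨⟨_, e⟩, Finset.mem_coe.2 (Finset.mem_univ _),
        show z * (x * (x⁻¹ * (z⁻¹ * g * z))) * z⁻¹ = g by group⟩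
    · intro o _
      have e : x⁻¹ * (z⁻¹ * (z * (x * (o : G)) * z⁻¹) * z) = (o : G) := by group
      show conj _ = _
      rw [if_pos (e.symm ▸ o.2), one_mul, CharTheory.IsIrrCharacter.isClassFunction χ.2]
  rw [classInner]
  simp only [secFun, Finset.sum_mul]
  rw [Finset.sum_comm, Finset.sum_congr rfl fun z _ => key z, Finset.sum_const, Finset.card_univ,
    nsmul_eq_mul, ← Nat.card_eq_fintype_card, ← mul_assoc,
    inv_mul_cancel₀ (Nat.cast_ne_zero.2 Nat.card_pos.ne'), one_mul, h.sum_core hM hxP hx]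
  split_ifs
  · rw [map_mul, map_natCast, hreal]
  · rw [map_zero]

open scoped Classical in
/-- The class function supported on the section of `x` is a combination of the principal block. -/
theorem secFun_eq {x : G} (hxP : x ∈ (P : Subgroup G)) (hx : orderOf x = 2)
    [Fintype (IrrCharacter G)] (g : G) :
    secFun x g = ∑ χ : IrrCharacter G,
      if χ ∈ principalBlock Mi G then (Nat.card (θ x) : ℂ) * (χ : G → ℂ) x * (χ : G → ℂ) g else 0 := by
  conv_lhs => rw [eq_sum_classInner (isClassFunction_secFun x)]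
  rw [Finset.sum_apply]
  refine Finset.sum_congr rfl fun χ _ => ?_
  rw [Pi.smul_apply, smul_eq_mul, h.classInner_secFun hM hxP hx]
  split_ifs <;> simp

theorem secFun_one {x : G} (hx : orderOf x = 2) : secFun x (1 : G) = 0 := by
  classical
  refine Finset.sum_eq_zero fun z _ => if_neg fun e => ?_
  rw [mul_one, inv_mul_cancel, mul_one] at e
  have h1 := (Signalizer.ScnThree.odd_card_theta x).of_dvd_nat (Subgroup.orderOf_dvd_natCard _ e)
  rw [orderOf_inv, hx] at h1
  exact absurd h1 (by decide)

theorem secFun_self {x : G} (hx : orderOf x = 2) :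
    secFun x x = (Nat.card CG(x) : ℂ) := by
  classical
  haveI := Fintype.ofFinite CG(x)
  have hiff : ∀ z : G, x⁻¹ * (z⁻¹ * x * z) ∈ θ x ↔ z ∈ CG(x) := by
    intro z
    rw [Subgroup.mem_centralizer_singleton_iff]
    constructor
    · intro e
      set o := x⁻¹ * (z⁻¹ * x * z) with ho
      have hc : Commute x o := (Subgroup.mem_centralizer_singleton_iff.1
        (Balance.centralizerPPrimeCore_le_centralizer 2 x e)).symm
      have h2 : orderOf (x * o) = 2 := by
        rw [ho, mul_inv_cancel_left]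
        have := orderOf_conj z⁻¹ x
        rwa [inv_inv, hx] at this
      have h3 : o * o = 1 := by
        calc o * o = (x * x) * (o * o) := by rw [mul_self_eq_one hx, one_mul]
          _ = (x * o) * (x * o) := by rw [hc.mul_mul_mul_comm]
          _ = 1 := mul_self_eq_one h2
      have h4 : o = 1 := by
        have h5 := (Signalizer.ScnThree.odd_card_theta x).of_dvd_nat (Subgroup.orderOf_dvd_natCard _ e)
        rcases (Nat.dvd_prime Nat.prime_two).1
          (orderOf_dvd_of_pow_eq_one (show o ^ 2 = 1 by rw [pow_two]; exact h3)) with h6 | h6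
        · exact orderOf_eq_one_iff.1 h6
        · rw [h6] at h5; exact absurd h5 (by decide)
      rw [ho, inv_mul_eq_one] at h4
      calc z * x = z * (z⁻¹ * x * z) := by rw [← h4]
        _ = x * z := by group
    · intro e
      rw [show x⁻¹ * (z⁻¹ * x * z) = 1 by rw [mul_assoc z⁻¹, ← e]; group]
      exact one_mem _
  unfold secFun
  rw [Finset.sum_congr rfl fun z _ => if_congr (hiff z) rfl rfl, Finset.sum_boole,
    ← Fintype.card_subtype, ← Nat.card_eq_fintype_card]

open scoped Classical in
theorem sum_sq {x : G} (hxP : x ∈ (P : Subgroup G)) (hx : orderOf x = 2)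
    [Fintype (IrrCharacter G)] :
    ∑ χ : IrrCharacter G, (if χ ∈ principalBlock Mi G then (χ : G → ℂ) x * (χ : G → ℂ) x else 0) =
      (Nat.card (P : Subgroup G) : ℂ) := by
  refine mul_left_cancel₀ (Nat.cast_ne_zero.2 (Nat.card_pos (α := θ x)).ne') ?_
  rw [← Nat.cast_mul, ← h.card_centralizer hxP hx, ← h.secFun_self hM hx, h.secFun_eq hM hxP hx,
    Finset.mul_sum]
  exact Finset.sum_congr rfl fun χ _ => by split_ifs <;> ring

open scoped Classical in
theorem sum_deg {x : G} (hxP : x ∈ (P : Subgroup G)) (hx : orderOf x = 2)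
    [Fintype (IrrCharacter G)] :
    ∑ χ : IrrCharacter G, (if χ ∈ principalBlock Mi G then (χ : G → ℂ) x * (χ : G → ℂ) 1 else 0) =
      0 := by
  refine mul_left_cancel₀ (Nat.cast_ne_zero.2 (Nat.card_pos (α := θ x)).ne') ?_
  rw [mul_zero, Finset.mul_sum]
  refine Eq.trans (Finset.sum_congr rfl fun χ _ => ?_)
    ((h.secFun_eq hM hxP hx 1).symm.trans (h.secFun_one hM hx))
  split_ifs <;> ring

/-- The degree is congruent to the value at an involution modulo `|P|`. -/
theorem degree_congr (hP : ¬ (P : Subgroup G).Normal) (hel : ∀ g ∈ (P : Subgroup G), g * g = 1)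
    (χ : IrrCharacter G) {x : G} (hxP : x ∈ (P : Subgroup G)) (hx : orderOf x = 2) {a : ℤ}
    (ha : (χ : G → ℂ) x = a) :
    (Nat.card (P : Subgroup G) : ℤ) ∣ (charDegree (χ : G → ℂ) : ℤ) - a := by
  classical
  haveI := Fintype.ofFinite (P : Subgroup G)
  obtain ⟨m, hm⟩ := BlockLocal.exists_nat_sum_subgroup (P : Subgroup G) χ
  refine ⟨(m : ℤ) - a, ?_⟩
  have hval : ∀ p : (P : Subgroup G), (χ : G → ℂ) (p : G) =
      if p = 1 then (charDegree (χ : G → ℂ) : ℂ) else (a : ℂ) := by
    intro p
    split_ifs with hp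
    · rw [hp, OneMemClass.coe_one, Blocks.charDegree_cast]
    · obtain ⟨c, hc⟩ := isConj_iff.1 (isConj_involutions (h.stronglyEmbedded hP) hx
        (Involutions.orderOf_eq_two_iff.2 ⟨hel _ p.2, fun e => hp (Subtype.ext e)⟩))
      rw [← hc, CharTheory.IsIrrCharacter.isClassFunction χ.2, ha]
  rw [Finset.sum_congr rfl fun p _ => hval p, Finset.sum_ite, Finset.sum_const, Finset.sum_const,
    Finset.filter_eq', if_pos (Finset.mem_univ _), Finset.card_singleton, Finset.filter_ne',
    Finset.card_erase_of_mem (Finset.mem_univ _), Finset.card_univ, ← Nat.card_eq_fintype_card,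
    one_nsmul, nsmul_eq_mul, Nat.cast_sub Nat.card_pos, Nat.cast_one] at hm
  have h1 : (((charDegree (χ : G → ℂ) : ℤ) - a : ℤ) : ℂ) =
      (((Nat.card (P : Subgroup G) : ℤ) * ((m : ℤ) - a) : ℤ) : ℂ) := by
    push_cast
    linear_combination hm
  exact_mod_cast h1

theorem apply_ne_zero (hP : ¬ (P : Subgroup G).Normal) (hel : ∀ g ∈ (P : Subgroup G), g * g = 1)
    {χ : IrrCharacter G} (hχ : χ ∈ principalBlock Mi G) {x : G} (hxP : x ∈ (P : Subgroup G))
    (hx : orderOf x = 2) : (χ : G → ℂ) x ≠ 0 := by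
  haveI : Fact (Nat.Prime 2) := ⟨Nat.prime_two⟩
  haveI := Blocks.isPrime_of_isPModular hM
  intro h0
  have hdvd := h.degree_congr hM hP hel χ hxP hx (a := 0) (by simp [h0])
  rw [sub_zero, Int.natCast_dvd_natCast, P.card_eq_multiplicity] at hdvd
  have hfull : ¬ 2 ∣ Nat.card G / charDegree (χ : G → ℂ) := by
    rw [Blocks.not_dvd_card_div_charDegree_iff]
    refine le_antisymm ((Nat.factorization_le_iff_dvd (Blocks.charDegree_ne_zero' χ)
      Nat.card_pos.ne').2 (Blocks.charDegree_dvd_card χ) 2) ?_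
    exact (Nat.Prime.pow_dvd_iff_le_factorization Nat.prime_two
      (Blocks.charDegree_ne_zero' χ)).1 hdvd
  have h1 : trivIrr G ∈ blockOf Mi (χ : G → ℂ) := by
    have e : principalBlock Mi G = blockOf Mi (χ : G → ℂ) := Blocks.blockOf_eq_of_sameBlock hχ
    rw [← e]
    exact BlockLocal.trivIrr_mem_principalBlock G
  rw [Blocks.blockOf_eq_singleton_of_full hM χ hfull, Set.mem_singleton_iff] at h1
  have h2 : ((trivIrr G : IrrCharacter G) : G → ℂ) x = 0 := by rw [h1, h0]
  rw [trivIrr_apply] at h2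
  exact one_ne_zero h2

open scoped Classical in
/-- The Frobenius-Schur identity in the column of `x`. -/
theorem sum_fs (hel : ∀ g ∈ (P : Subgroup G), g * g = 1) {x : G} (hxP : x ∈ (P : Subgroup G))
    (hx : orderOf x = 2) [Fintype (IrrCharacter G)] :
    ∑ χ : IrrCharacter G,
      (if χ ∈ principalBlock Mi G then fsIndicator (χ : G → ℂ) * (χ : G → ℂ) x else 0) = 0 := by
  haveI := Fintype.ofFinite (θ x)
  refine mul_left_cancel₀ (Nat.cast_ne_zero.2 (Nat.card_pos (α := θ x)).ne') ?_
  rw [mul_zero, Finset.mul_sum]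
  have h0 : ∀ o : θ x, (0 : ℂ) = ∑ χ : IrrCharacter G,
      fsIndicator (χ : G → ℂ) * (χ : G → ℂ) (x * (o : G)) := by
    intro o
    rw [← Correspondences.card_sqrt_eq_sum, eq_comm, Nat.cast_eq_zero, Finset.card_eq_zero,
      Finset.filter_eq_empty_iff]
    intro u _ hu
    have hc : Commute x (o : G) := (Subgroup.mem_centralizer_singleton_iff.1
      (Balance.centralizerPPrimeCore_le_centralizer 2 x o.2)).symm
    have ho : Odd (orderOf (o : G)) :=
      (Signalizer.ScnThree.odd_card_theta x).of_dvd_nat (Subgroup.orderOf_dvd_natCard _ o.2)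
    have hord : orderOf (x * (o : G)) = 2 * orderOf (o : G) := by
      rw [hc.orderOf_mul_eq_mul_orderOf_of_coprime (by rw [hx]; exact Nat.coprime_two_left.2 ho), hx]
    apply not_four_dvd hel u
    have heven : Even (orderOf u) := by
      by_contra hodd
      have h1 := orderOf_pow_dvd (x := u) 2
      rw [pow_two, hu, hord] at h1
      exact hodd (even_iff_two_dvd.2 ((dvd_mul_right 2 _).trans h1))
    have h2 : orderOf (u ^ 2) = orderOf u / 2 := by
      rw [orderOf_pow' u two_ne_zero, Nat.gcd_eq_right (even_iff_two_dvd.1 heven)]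
    rw [pow_two, hu, hord] at h2
    obtain ⟨r, hr⟩ := heven
    exact ⟨orderOf (o : G), by omega⟩
  calc ∑ χ : IrrCharacter G, (Nat.card (θ x) : ℂ) *
        (if χ ∈ principalBlock Mi G then fsIndicator (χ : G → ℂ) * (χ : G → ℂ) x else 0)
      = ∑ χ : IrrCharacter G,
          fsIndicator (χ : G → ℂ) * ∑ o : θ x, (χ : G → ℂ) (x * (o : G)) := by
        refine Finset.sum_congr rfl fun χ _ => ?_
        rw [h.sum_core hM hxP hx]
        split_ifs <;> ring
    _ = 0 := by
        simp only [Finset.mul_sum]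
        rw [Finset.sum_comm]
        exact Finset.sum_eq_zero fun o _ => (h0 o).symm

end Hyp

end CfsgLib.AbelianTwo
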