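import Cfsg.Prelude.Def_Involutions
import Cfsg.Agent.Lib.Signalizer.ScnThreeCores
import Cfsg.Agent.Lib.Balance.Complete
import Cfsg.Agent.Lib.Balance.CentralizerCore
import Cfsg.Agent.Lib.Involutions.StronglyEmbedded
import Cfsg.Agent.S0205

/-!
Groups with an abelian Sylow 2-subgroup of rank at least three in which every centralizer of an
involution has a normal 2-complement: the strongly embedded subgroup given by the solvable
signalizer functor theorem.
-/

set_option autoImplicit false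
set_option linter.unusedSectionVars false
set_option linter.style.haveILetI false

open Cfsg CfsgLib.Involutions

namespace CfsgLib.AbelianTwo

variable {G : Type*} [Group G] [Finite G]

local notation "θ" => Cfsg.centralizerPPrimeCore 2
local notation "CG(" x ")" => Subgroup.centralizer ({x} : Set _)

/-- The hypotheses: abelian Sylow 2-subgroup of rank at least three, 2-nilpotent centralizers of
involutions and trivial odd core. -/
structure Hyp (P : Sylow 2 G) : Prop where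
  comm : ∀ a ∈ (P : Subgroup G), ∀ b ∈ (P : Subgroup G), a * b = b * a
  rank : ∃ E : Subgroup G, E ≤ (P : Subgroup G) ∧ (∀ e ∈ E, e * e = 1) ∧ 8 ≤ Nat.card E
  nilp : ∀ x : G, orderOf x = 2 → ∀ y ∈ CG(x), Odd (orderOf y) → y ∈ θ x
  core : oddCore G = ⊥

/-- The elements of square one of the Sylow subgroup. -/
def omega (P : Sylow 2 G) (hc : ∀ a ∈ (P : Subgroup G), ∀ b ∈ (P : Subgroup G), a * b = b * a) :
    Subgroup G where
  carrier := {g | g ∈ (P : Subgroup G) ∧ g * g = 1}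
  one_mem' := ⟨one_mem _, one_mul 1⟩
  mul_mem' := fun {a b} ha hb => ⟨mul_mem ha.1 hb.1, by
    rw [mul_assoc, ← mul_assoc b a b, hc b hb.1 a ha.1, mul_assoc a b b, hb.2, mul_one, ha.2]⟩
  inv_mem' := fun {a} ha => ⟨inv_mem ha.1, by rw [← mul_inv_rev, ha.2, inv_one]⟩

namespace Hyp

variable {P : Sylow 2 G} (h : Hyp P)
include h

theorem le_centralizer {x : G} (hx : x ∈ (P : Subgroup G)) : (P : Subgroup G) ≤ CG(x) :=
  fun b hb => Subgroup.mem_centralizer_singleton_iff.2 (h.comm b hb x hx)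

theorem isElementaryAbelian_omega : IsElementaryAbelian 2 (omega P h.comm) :=
  ⟨⟨⟨fun a b => Subtype.ext (h.comm a a.2.1 b b.2.1)⟩⟩, fun a ha => by rw [pow_two]; exact ha.2⟩

theorem bal (a b : G) (_ : a * a = 1) (hb : orderOf b = 2) (_ : a * b = b * a) :
    θ a ⊓ CG(b) ≤ θ b := fun y hy => by
  refine h.nilp b hb y hy.2 ?_
  refine (Signalizer.ScnThree.odd_card_theta a).of_dvd_nat ?_
  exact Subgroup.orderOf_dvd_natCard _ hy.1

theorem setting : Signalizer.ScnThree.Setting P (omega P h.comm) := by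
  haveI : Fact (Nat.Prime 2) := ⟨Nat.prime_two⟩
  refine ⟨fun g hg => hg.1, fun s hs e he => ?_, h.isElementaryAbelian_omega, ?_, h.bal,
    fun H hH => Cfsg.Agent.S0205.result hH, Balance.solvableFunctorsComplete 2⟩
  · rw [h.comm s hs e he.1, mul_inv_cancel_right]; exact he
  · obtain ⟨E, hE, hsq, h8⟩ := h.rank
    exact h8.trans (Subgroup.card_le_of_le fun e he => ⟨hE he, hsq e he⟩)

end Hyp

/-- The closure `W` of the odd cores of the centralizers of the involutions of `P`. -/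
def coreClosure {P : Sylow 2 G} (h : Hyp P) : Subgroup G :=
  Signalizer.ScnThree.coresOf (omega P h.comm)

/-- `W P`. -/
def innerSub {P : Sylow 2 G} (h : Hyp P) : Subgroup G := coreClosure h ⊔ (P : Subgroup G)

/-- `W N(P)`. -/
def bigSub {P : Sylow 2 G} (h : Hyp P) : Subgroup G :=
  coreClosure h ⊔ Subgroup.normalizer ((P : Subgroup G) : Set G)

namespace Hyp

variable {P : Sylow 2 G} (h : Hyp P)
include h

theorem odd_coreClosure : Odd (Nat.card (coreClosure h)) :=
  Signalizer.ScnThree.odd_card_coresOf h.setting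

theorem coreClosure_inf {x : G} (hxP : x ∈ (P : Subgroup G)) (hx : orderOf x = 2) :
    coreClosure h ⊓ CG(x) = θ x :=
  Signalizer.ScnThree.coresOf_inf_centralizer h.setting hxP hx

theorem normalizer_le : Subgroup.normalizer ((P : Subgroup G) : Set G) ≤
    Subgroup.normalizer (coreClosure h : Set G) := by
  refine le_trans ?_ (Signalizer.ScnThree.le_normalizer_coresOf _)
  intro g hg
  rw [Subgroup.mem_normalizer_iff] at hg
  refine Subgroup.mem_normalizer_iff.2 fun x => ?_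
  have he : g * x * g⁻¹ * (g * x * g⁻¹) = 1 ↔ x * x = 1 := by
    rw [show g * x * g⁻¹ * (g * x * g⁻¹) = g * (x * x) * g⁻¹ by group, conj_eq_one_iff]
  exact ⟨fun hx => ⟨(hg x).1 hx.1, he.2 hx.2⟩, fun hx => ⟨(hg x).2 hx.1, he.1 hx.2⟩⟩

theorem sylow_le_normalizer : (P : Subgroup G) ≤ Subgroup.normalizer (coreClosure h : Set G) :=
  Subgroup.le_normalizer.trans h.normalizer_le

theorem bigSub_le_normalizer :
    bigSub h ≤ Subgroup.normalizer (coreClosure h : Set G) :=
  sup_le Subgroup.le_normalizer h.normalizer_le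

theorem innerSub_le_bigSub : innerSub h ≤ bigSub h :=
  sup_le_sup_left Subgroup.le_normalizer _

theorem mem_innerSub_iff {g : G} :
    g ∈ innerSub h ↔ ∃ w ∈ coreClosure h, ∃ p ∈ (P : Subgroup G), g = w * p := by
  rw [innerSub, ← SetLike.mem_coe,
    Subgroup.coe_mul_of_right_le_normalizer_left _ _ h.sylow_le_normalizer, Set.mem_mul]
  exact ⟨fun ⟨a, ha, b, hb, e⟩ => ⟨a, ha, b, hb, e.symm⟩,
    fun ⟨a, ha, b, hb, e⟩ => ⟨a, ha, b, hb, e.symm⟩⟩

theorem mem_bigSub_iff {g : G} :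
    g ∈ bigSub h ↔ ∃ w ∈ coreClosure h,
      ∃ n ∈ Subgroup.normalizer ((P : Subgroup G) : Set G), g = w * n := by
  rw [bigSub, ← SetLike.mem_coe,
    Subgroup.coe_mul_of_right_le_normalizer_left _ _ h.normalizer_le, Set.mem_mul]
  exact ⟨fun ⟨a, ha, b, hb, e⟩ => ⟨a, ha, b, hb, e.symm⟩,
    fun ⟨a, ha, b, hb, e⟩ => ⟨a, ha, b, hb, e.symm⟩⟩

theorem inf_coreClosure : coreClosure h ⊓ (P : Subgroup G) = ⊥ := by
  refine Subgroup.inf_eq_bot_of_coprime ?_
  obtain ⟨k, hk⟩ := IsPGroup.iff_card.1 P.isPGroup'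
  rw [hk]
  exact Nat.Coprime.pow_right _ (Nat.coprime_two_right.2 h.odd_coreClosure)

theorem card_innerSub :
    Nat.card (innerSub h) = Nat.card (coreClosure h) * Nat.card (P : Subgroup G) := by
  refine ((Nat.card_prod _ _).symm.trans (Nat.card_congr ?_)).symm
  refine Equiv.ofBijective
    (fun w : coreClosure h × (P : Subgroup G) =>
      (⟨(w.1 : G) * w.2, h.mem_innerSub_iff.2 ⟨_, w.1.2, _, w.2.2, rfl⟩⟩ : innerSub h)) ⟨?_, ?_⟩
  · intro a b e
    exact Subgroup.mul_injective_of_disjoint (disjoint_iff.2 h.inf_coreClosure)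
      (congrArg (fun t : innerSub h => (t : G)) e)
  · rintro ⟨g, hg⟩
    obtain ⟨w, hw, p, hp, rfl⟩ := h.mem_innerSub_iff.1 hg
    exact ⟨(⟨w, hw⟩, ⟨p, hp⟩), rfl⟩

theorem mem_coreClosure_of_odd {g : G} (hg : g ∈ innerSub h) (ho : Odd (orderOf g)) :
    g ∈ coreClosure h := by
  obtain ⟨w, hw, p, hp, rfl⟩ := h.mem_innerSub_iff.1 hg
  have hn : coreClosure h ≤ Subgroup.normalizer (coreClosure h : Set G) := Subgroup.le_normalizer
  obtain ⟨k, hk⟩ := IsPGroup.iff_orderOf.1 P.isPGroup' ⟨p, hp⟩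
  rw [Subgroup.orderOf_mk] at hk
  set m := orderOf (w * p)
  have hp1 : p ^ m ∈ coreClosure h := by
    let N := Subgroup.normalizer (coreClosure h : Set G)
    haveI : ((coreClosure h).subgroupOf N).Normal :=
      (Subgroup.normal_subgroupOf_iff_le_normalizer hn).2 le_rfl
    have e : QuotientGroup.mk' ((coreClosure h).subgroupOf N)
        ((⟨w * p, mul_mem (hn hw) (h.sylow_le_normalizer hp)⟩ : N) ^ m) =
        QuotientGroup.mk' ((coreClosure h).subgroupOf N) (⟨p, h.sylow_le_normalizer hp⟩ ^ m) := by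
      rw [map_pow, map_pow]
      congr 1
      rw [← mul_inv_eq_one, ← map_inv, ← map_mul, QuotientGroup.mk'_apply,
        QuotientGroup.eq_one_iff, Subgroup.mem_subgroupOf]
      simp [hw]
    have e1 : (⟨w * p, mul_mem (hn hw) (h.sylow_le_normalizer hp)⟩ : N) ^ m = 1 :=
      Subtype.ext (pow_orderOf_eq_one (w * p))
    rw [e1, map_one, eq_comm, QuotientGroup.mk'_apply, QuotientGroup.eq_one_iff,
      Subgroup.mem_subgroupOf] at e
    exact e
  have hp2 : p ^ m ∈ coreClosure h ⊓ (P : Subgroup G) := ⟨hp1, pow_mem hp _⟩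
  rw [h.inf_coreClosure, Subgroup.mem_bot] at hp2
  have hd : orderOf p ∣ m := orderOf_dvd_of_pow_eq_one hp2
  have hk0 : k = 0 := by
    by_contra hk0
    rw [hk] at hd
    exact (Nat.not_even_iff_odd.2 ho) (even_iff_two_dvd.2 ((dvd_pow_self 2 hk0).trans hd))
  rw [hk0, pow_zero, orderOf_eq_one_iff] at hk
  rw [hk, mul_one]; exact hw

theorem card_centralizer {x : G} (hxP : x ∈ (P : Subgroup G)) (hx : orderOf x = 2) :
    Nat.card CG(x) = Nat.card (θ x) * Nat.card (P : Subgroup G) := by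
  haveI : Fact (Nat.Prime 2) := ⟨Nat.prime_two⟩
  set C := CG(x)
  set N := pPrimeCore 2 C
  haveI : N.Normal := Subgroup.sSup_normal _ fun _ hN => hN.1
  have hN : Nat.card N = Nat.card (θ x) := by
    rw [centralizerPPrimeCore, Subgroup.card_map_of_injective C.subtype_injective]
  let PC : Sylow 2 C := P.subtype (h.le_centralizer hxP)
  have hPC : Nat.card (PC : Subgroup C) = Nat.card (P : Subgroup G) :=
    Nat.card_congr (Subgroup.subgroupOfEquivOfLe (h.le_centralizer hxP)).toEquiv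
  rw [← hPC, ← hN]
  have hquot : IsPGroup 2 (C ⧸ N) := by
    intro q
    obtain ⟨c, rfl⟩ := QuotientGroup.mk_surjective q
    obtain ⟨k, m, hm, he⟩ := Nat.exists_eq_two_pow_mul_odd (orderOf_pos c).ne'
    refine ⟨k, ?_⟩
    rw [← QuotientGroup.mk_pow, QuotientGroup.eq_one_iff]
    have hy : ((c ^ 2 ^ k : C) : G) ∈ θ x := by
      refine h.nilp x hx _ (c ^ 2 ^ k).2 ?_
      rw [Subgroup.orderOf_coe, orderOf_pow, he, Nat.gcd_eq_right (dvd_mul_right _ _),
        Nat.mul_div_cancel_left _ (pow_pos two_pos _)]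
      exact hm
    obtain ⟨y, hy, e⟩ := hy
    rwa [Subtype.ext (show (y : G) = ((c ^ 2 ^ k : C) : G) from e)] at hy
  have hN2 : Odd (Nat.card N) := hN ▸ Signalizer.ScnThree.odd_card_theta x
  obtain ⟨b, hb⟩ := IsPGroup.iff_card.1 hquot
  rw [PC.card_eq_multiplicity, Subgroup.card_eq_card_quotient_mul_card_subgroup N, hb,
    Nat.factorization_mul (pow_ne_zero _ two_ne_zero) Nat.card_pos.ne',
    Finsupp.add_apply, Nat.Prime.factorization_pow Nat.prime_two, Finsupp.single_eq_same,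
    Nat.factorization_eq_zero_of_not_dvd (fun e => (Nat.not_even_iff_odd.2 hN2) (even_iff_two_dvd.2 e)),
    add_zero, mul_comm]

theorem centralizer_le_innerSub {x : G} (hxP : x ∈ (P : Subgroup G)) (hx : orderOf x = 2) :
    CG(x) ≤ innerSub h := by
  have h1 : θ x ⊔ (P : Subgroup G) ≤ innerSub h := by
    refine sup_le ?_ le_sup_right
    rw [← h.coreClosure_inf hxP hx]
    exact inf_le_left.trans le_sup_left
  have h2 : θ x ⊔ (P : Subgroup G) ≤ CG(x) :=
    sup_le (Balance.centralizerPPrimeCore_le_centralizer 2 x) (h.le_centralizer hxP)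
  have h3 : θ x ⊔ (P : Subgroup G) = CG(x) := by
    refine Subgroup.eq_of_le_of_card_ge h2 ?_
    rw [h.card_centralizer hxP hx]
    have hdisj : θ x ⊓ (P : Subgroup G) = ⊥ := by
      rw [← le_bot_iff, ← h.inf_coreClosure, ← h.coreClosure_inf hxP hx]
      exact inf_le_inf_right _ inf_le_left
    rw [← Nat.card_prod]
    exact Nat.card_le_card_of_injective
      (fun w : θ x × (P : Subgroup G) => (⟨(w.1 : G) * w.2,
        mul_mem (Subgroup.mem_sup_left w.1.2) (Subgroup.mem_sup_right w.2.2)⟩ :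
          (θ x ⊔ (P : Subgroup G) : Subgroup G)))
      fun a b e => Subgroup.mul_injective_of_disjoint (disjoint_iff.2 hdisj)
        (congrArg (fun t : (θ x ⊔ (P : Subgroup G) : Subgroup G) => (t : G)) e)
  exact h3 ▸ h1

theorem conj_mem_innerSub {m g : G} (hm : m ∈ bigSub h) (hg : g ∈ innerSub h) :
    m * g * m⁻¹ ∈ innerSub h := by
  obtain ⟨w, hw, n, hn, rfl⟩ := h.mem_bigSub_iff.1 hm
  obtain ⟨v, hv, p, hp, rfl⟩ := h.mem_innerSub_iff.1 hg
  have h1 : n * (v * p) * n⁻¹ ∈ innerSub h := by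
    rw [show n * (v * p) * n⁻¹ = (n * v * n⁻¹) * (n * p * n⁻¹) by group]
    exact mul_mem (Subgroup.mem_sup_left ((Subgroup.mem_normalizer_iff.1 (h.normalizer_le hn) v).1 hv))
      (Subgroup.mem_sup_right ((Subgroup.mem_normalizer_iff.1 hn p).1 hp))
  rw [show w * n * (v * p) * (w * n)⁻¹ = w * (n * (v * p) * n⁻¹) * w⁻¹ by group]
  exact mul_mem (mul_mem (Subgroup.mem_sup_left hw) h1) (inv_mem (Subgroup.mem_sup_left hw))

theorem innerSub_normal : ((innerSub h).subgroupOf (bigSub h)).Normal :=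
  ⟨fun g hg m => Subgroup.mem_subgroupOf.2 (h.conj_mem_innerSub m.2 (Subgroup.mem_subgroupOf.1 hg))⟩

/-- Every involution of `W N(P)` is conjugate there into `P`. -/
theorem exists_conj_mem_sylow {t : G} (ht : t ∈ bigSub h) (ht2 : orderOf t = 2) :
    ∃ a ∈ bigSub h, a * t * a⁻¹ ∈ (P : Subgroup G) := by
  haveI : Fact (Nat.Prime 2) := ⟨Nat.prime_two⟩
  let PM : Sylow 2 (bigSub h) :=
    P.subtype (Subgroup.le_normalizer.trans le_sup_right)
  have hp : IsPGroup 2 (Subgroup.zpowers (⟨t, ht⟩ : bigSub h)) :=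
    IsPGroup.of_card (n := 1) (by rw [Nat.card_zpowers, Subgroup.orderOf_mk, ht2, pow_one])
  obtain ⟨Q, hQ⟩ := hp.exists_le_sylow
  obtain ⟨a, ha⟩ := MulAction.exists_smul_eq (bigSub h) Q PM
  refine ⟨a, a.2, ?_⟩
  have h1 : a * (⟨t, ht⟩ : bigSub h) * a⁻¹ ∈ (PM : Subgroup (bigSub h)) := by
    rw [← ha, Sylow.coe_subgroup_smul, Subgroup.mem_pointwise_smul_iff_inv_smul_mem,
      MulAut.smul_def, MulAut.conj_inv_apply]
    simpa [mul_assoc] using hQ (Subgroup.mem_zpowers _)
  exact h1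

/-- Every centralizer of an involution of `W N(P)` lies in `W P`. -/
theorem centralizer_le_innerSub' {t : G} (ht : t ∈ bigSub h) (ht2 : orderOf t = 2) :
    CG(t) ≤ innerSub h := by
  obtain ⟨a, ha, hat⟩ := h.exists_conj_mem_sylow ht ht2
  intro c hc
  have h1 : a * c * a⁻¹ ∈ innerSub h := by
    refine h.centralizer_le_innerSub hat (by rw [orderOf_conj, ht2]) ?_
    rw [Subgroup.mem_centralizer_singleton_iff] at hc ⊢
    calc a * c * a⁻¹ * (a * t * a⁻¹) = a * (c * t) * a⁻¹ := by group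
      _ = _ := by rw [hc]; group
  have h2 := h.conj_mem_innerSub (inv_mem ha) h1
  rwa [show a⁻¹ * (a * c * a⁻¹) * a⁻¹⁻¹ = c by group] at h2

theorem exists_normalizer {a a' : G} (ha : a ∈ (P : Subgroup G)) (ha' : a' ∈ (P : Subgroup G))
    (hc : IsConj a a') :
    ∃ n ∈ Subgroup.normalizer ((P : Subgroup G) : Set G), n * a * n⁻¹ = a' := by
  haveI : Fact (Nat.Prime 2) := ⟨Nat.prime_two⟩
  obtain ⟨g, hg⟩ := isConj_iff.1 hc
  have hcen : ∀ v ∈ (P : Subgroup G), v ∈ Subgroup.centralizer ((P : Subgroup G) : Set G) :=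
    fun v hv => Subgroup.mem_centralizer_iff.2 fun x hx => h.comm x hx v hv
  obtain ⟨n, hn, e⟩ := P.conj_eq_normalizer_conj_of_mem_centralizer a g⁻¹ (hcen a ha)
    (by rw [inv_inv, hg]; exact hcen a' ha')
  refine ⟨n⁻¹, inv_mem hn, ?_⟩
  rw [inv_inv, ← e, inv_inv, hg]

theorem exists_involution : ∃ x ∈ (P : Subgroup G), orderOf x = 2 := by
  obtain ⟨E, hE, hsq, h8⟩ := h.rank
  haveI : Nontrivial E := (Finite.one_lt_card_iff_nontrivial).1 (by omega)
  obtain ⟨⟨x, hx⟩, hx1⟩ := exists_ne (1 : E)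
  exact ⟨x, hE hx, orderOf_eq_two_iff.2 ⟨hsq x hx, fun e => hx1 (Subtype.ext e)⟩⟩

/-- `W N(P)` is strongly embedded unless `P` is normal. -/
theorem stronglyEmbedded (hP : ¬ (P : Subgroup G).Normal) : IsStronglyEmbedded (bigSub h) := by
  haveI : Fact (Nat.Prime 2) := ⟨Nat.prime_two⟩
  have htop : bigSub h ≠ ⊤ := fun htop => by
    have hW : (coreClosure h).Normal :=
      Subgroup.normalizer_eq_top_iff.1 (eq_top_iff.2 (htop ▸ h.bigSub_le_normalizer))
    have hW1 : coreClosure h ≤ oddCore G :=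
      le_sSup ⟨hW, Nat.coprime_two_right.2 h.odd_coreClosure⟩
    rw [h.core, le_bot_iff] at hW1
    apply hP
    rw [← Subgroup.normalizer_eq_top_iff, eq_top_iff, ← htop, bigSub, hW1, bot_sup_eq]
  obtain ⟨x, hxP, hx⟩ := h.exists_involution
  have hxM : x ∈ bigSub h := Subgroup.mem_sup_right (Subgroup.le_normalizer hxP)
  have heven : Even (Nat.card (bigSub h)) :=
    even_iff_two_dvd.2 (hx ▸ Subgroup.orderOf_dvd_natCard _ hxM)
  refine (Involutions.isStronglyEmbedded_iff_conj htop heven).2 fun t ht ht2 g hg => ?_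
  obtain ⟨a, ha, hat⟩ := h.exists_conj_mem_sylow ht ht2
  obtain ⟨b, hb, hbt⟩ := h.exists_conj_mem_sylow hg (by rw [orderOf_conj, ht2])
  obtain ⟨n, hn, hne⟩ := h.exists_normalizer hat hbt
    (isConj_iff.2 ⟨b * g * a⁻¹, by group⟩)
  have hc : n⁻¹ * (b * g * a⁻¹) ∈ CG(a * t * a⁻¹) := by
    refine Subgroup.mem_centralizer_singleton_iff.2 ?_
    calc n⁻¹ * (b * g * a⁻¹) * (a * t * a⁻¹) = n⁻¹ * (b * (g * t * g⁻¹) * b⁻¹) * (b * g * a⁻¹) := by
          group
      _ = a * t * a⁻¹ * (n⁻¹ * (b * g * a⁻¹)) := by rw [← hne]; group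
  have hM := h.innerSub_le_bigSub (h.centralizer_le_innerSub hat (by rw [orderOf_conj, ht2]) hc)
  have hg' := mul_mem (mul_mem (inv_mem hb)
    (mul_mem (Subgroup.mem_sup_right hn : n ∈ bigSub h) hM)) ha
  rwa [show b⁻¹ * (n * (n⁻¹ * (b * g * a⁻¹))) * a = g by group] at hg'

end Hyp

end CfsgLib.AbelianTwo
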