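import Cfsg.Agent.Lib.AbelianTwo.Outer
import Cfsg.Agent.Lib.GW.FourFormula
import Cfsg.Agent.Lib.Involutions.ZStar
import Cfsg.Agent.Lib.Involutions.Counting
import Cfsg.Agent.S1225

/-!
Counting the conjugates of `x` whose product with `x` is 2-singular, and the resulting identity
for the column of the principal block at `x`.
-/

set_option autoImplicit false
set_option linter.all false

open Cfsg CfsgLib.Involutions

namespace CfsgLib.AbelianTwo

universe u

variable {G : Type u} [Group G] [Finite G]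

local notation "θ" => Cfsg.centralizerPPrimeCore 2
local notation "CG(" x ")" => Subgroup.centralizer ({x} : Set _)

namespace Hyp

variable {P : Sylow 2 G} (h : Hyp P)
include h

/-- The involutions of `W P`. -/
abbrev Invols := {t : G // t ∈ innerSub h ∧ orderOf t = 2}

theorem isConj_of_involution (hP : ¬ (P : Subgroup G).Normal) {a b : G} (ha : orderOf a = 2)
    (hb : orderOf b = 2) : IsConj a b :=
  CfsgLib.TwoFusion.isConj_involutions (h.stronglyEmbedded hP) ha hb

theorem card_theta_eq (hP : ¬ (P : Subgroup G).Normal) {x p : G} (hxP : x ∈ (P : Subgroup G))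
    (hx : orderOf x = 2) (hpP : p ∈ (P : Subgroup G)) (hp : orderOf p = 2) :
    Nat.card (θ p) = Nat.card (θ x) := by
  have h1 := card_centralizer_eq_of_isConj (h.isConj_of_involution hP hx hp)
  rw [h.card_centralizer hpP hp, h.card_centralizer hxP hx] at h1
  exact Nat.eq_of_mul_eq_mul_right Nat.card_pos h1

theorem exists_proj {t : G} (ht : t ∈ innerSub h) (ht2 : orderOf t = 2) :
    ∃ p ∈ (P : Subgroup G), p * p = 1 ∧ p ≠ 1 ∧ t * p ∈ coreClosure h := by
  haveI : Fact (Nat.Prime 2) := ⟨Nat.prime_two⟩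
  obtain ⟨w, hw, p, hp, rfl⟩ := h.mem_innerSub_iff.1 ht
  have hsq : w * p * (w * p) = 1 := mul_self_eq_one ht2
  have hn : p * w * p⁻¹ ∈ coreClosure h :=
    (Subgroup.mem_normalizer_iff.1 (h.sylow_le_normalizer hp) w).1 hw
  have h1 : p * p ∈ coreClosure h := by
    have he : p * p = (p * w * p⁻¹)⁻¹ * w⁻¹ * (w * p * (w * p)) := by group
    rw [he, hsq, mul_one]
    exact mul_mem (inv_mem hn) (inv_mem hw)
  have h2 : p * p ∈ coreClosure h ⊓ (P : Subgroup G) := ⟨h1, mul_mem hp hp⟩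
  rw [h.inf_coreClosure, Subgroup.mem_bot] at h2
  refine ⟨p, hp, h2, fun e => ?_, ?_⟩
  · subst e
    rw [mul_one] at ht2
    have := (h.odd_coreClosure).of_dvd_nat (ht2 ▸ Subgroup.orderOf_dvd_natCard _ hw)
    exact absurd this (by decide)
  · rw [mul_assoc, h2, mul_one]; exact hw

/-- The involutions in one coset of `W`. -/
theorem card_fiber (hP : ¬ (P : Subgroup G).Normal) {x p : G} (hxP : x ∈ (P : Subgroup G))
    (hx : orderOf x = 2) (hpP : p ∈ (P : Subgroup G)) (hp : orderOf p = 2) :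
    Nat.card {t : G // (t ∈ innerSub h ∧ orderOf t = 2) ∧ t * p ∈ coreClosure h} *
      Nat.card (θ x) = Nat.card (coreClosure h) := by
  have hpp : p * p = 1 := mul_self_eq_one hp
  have hpinv : p⁻¹ = p := inv_eq_self hp
  have hn : ∀ y ∈ coreClosure h, p * y * p⁻¹ ∈ coreClosure h := fun y hy =>
    (Subgroup.mem_normalizer_iff.1 (h.sylow_le_normalizer hpP) y).1 hy
  have key : Nat.card {t : G // (t ∈ innerSub h ∧ orderOf t = 2) ∧ t * p ∈ coreClosure h} =
      Nat.card ↥(GW.invertedIn (coreClosure h) p) := by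
    refine Nat.card_congr ((Equiv.mulRight p).subtypeEquiv fun t => ?_)
    show (t ∈ innerSub h ∧ orderOf t = 2) ∧ t * p ∈ coreClosure h ↔
      t * p ∈ coreClosure h ∧ p * (t * p) * p⁻¹ = (t * p)⁻¹
    constructor
    · rintro ⟨⟨-, ht2⟩, hw⟩
      refine ⟨hw, ?_⟩
      rw [mul_inv_rev, hpinv, inv_eq_self ht2, mul_assoc p, mul_assoc t, hpp, mul_one]
    · rintro ⟨hw, hinv⟩
      have ht : t ∈ innerSub h := h.mem_innerSub_iff.2 ⟨_, hw, p, hpP,
        by rw [mul_assoc, hpp, mul_one]⟩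
      refine ⟨⟨ht, orderOf_eq_two_iff.2 ⟨?_, fun e => ?_⟩⟩, hw⟩
      · rw [mul_inv_rev, hpinv, mul_assoc p, mul_assoc t, hpp, mul_one] at hinv
        have := mul_left_cancel hinv
        calc t * t = t⁻¹ * t := by rw [← this]
          _ = 1 := inv_mul_cancel t
      · rw [e, one_mul] at hw
        have : p ∈ coreClosure h ⊓ (P : Subgroup G) := ⟨hw, hpP⟩
        rw [h.inf_coreClosure, Subgroup.mem_bot] at this
        exact ne_one hp this
  have hsplit := GW.card_eq_card_centralizer_mul h.odd_coreClosure (S := coreClosure h) hpp le_rfl hn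
  rw [h.coreClosure_inf hpP hp, h.card_theta_eq hP hxP hx hpP hp] at hsplit
  rw [key, hsplit, mul_comm]

/-- All involutions of `W P`. -/
theorem card_invols (hP : ¬ (P : Subgroup G).Normal) (helem : ∀ a ∈ (P : Subgroup G), a * a = 1)
    {x : G} (hxP : x ∈ (P : Subgroup G)) (hx : orderOf x = 2) :
    Nat.card (Invols h) * Nat.card (θ x) =
      (Nat.card (P : Subgroup G) - 1) * Nat.card (coreClosure h) := by
  classical
  haveI := Fintype.ofFinite G
  let Q := {p : G // p ∈ (P : Subgroup G) ∧ p ≠ 1}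
  let f : (Σ p : Q, {t : G // (t ∈ innerSub h ∧ orderOf t = 2) ∧ t * p.1 ∈ coreClosure h}) →
      Invols h := fun a => ⟨a.2.1, a.2.2.1⟩
  have hf : Function.Bijective f := by
    constructor
    · rintro ⟨⟨p, hp⟩, ⟨t, ht⟩⟩ ⟨⟨p', hp'⟩, ⟨t', ht'⟩⟩ e
      have e' : t = t' := congrArg Subtype.val e
      subst e'
      have hP1 : (t * p)⁻¹ * (t * p') ∈ (P : Subgroup G) := by
        rw [mul_inv_rev, mul_assoc, inv_mul_cancel_left]; exact mul_mem (inv_mem hp.1) hp'.1
      have hW1 : (t * p)⁻¹ * (t * p') ∈ coreClosure h := mul_mem (inv_mem ht.2) ht'.2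
      have h1 : (t * p)⁻¹ * (t * p') ∈ coreClosure h ⊓ (P : Subgroup G) :=
        Subgroup.mem_inf.2 ⟨hW1, hP1⟩
      rw [h.inf_coreClosure, Subgroup.mem_bot, inv_mul_eq_one] at h1
      have := mul_left_cancel h1
      subst this
      rfl
    · rintro ⟨t, ht, ht2⟩
      obtain ⟨p, hp, -, hp1, hw⟩ := h.exists_proj ht ht2
      exact ⟨⟨⟨p, hp, hp1⟩, ⟨t, ⟨ht, ht2⟩, hw⟩⟩, rfl⟩
  rw [← Nat.card_congr (Equiv.ofBijective f hf), Nat.card_sigma, Finset.sum_mul,
    Finset.sum_congr rfl (g := fun _ => Nat.card (coreClosure h)) fun p _ =>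
      h.card_fiber hP hxP hx p.2.1 (orderOf_eq_two_iff.2 ⟨helem _ p.2.1, p.2.2⟩),
    Finset.sum_const, smul_eq_mul, Finset.card_univ, ← Nat.card_eq_fintype_card]
  congr 1
  have e : Q ≃ {p : (P : Subgroup G) // p ≠ 1} :=
    { toFun := fun p => ⟨⟨p.1, p.2.1⟩, fun e => p.2.2 (congrArg Subtype.val e)⟩
      invFun := fun p => ⟨p.1.1, p.1.2, fun e => p.2 (Subtype.ext e)⟩
      left_inv := fun _ => rfl
      right_inv := fun _ => rfl }
  rw [Nat.card_congr e, Nat.card_eq_fintype_card, Fintype.card_subtype_compl,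
    Fintype.card_subtype_eq, ← Nat.card_eq_fintype_card]

/-- The order of `W N(P)`. -/
theorem card_bigSub_eq (hP : ¬ (P : Subgroup G).Normal)
    (helem : ∀ a ∈ (P : Subgroup G), a * a = 1) :
    Nat.card (bigSub h) = (Nat.card (P : Subgroup G) - 1) * Nat.card (coreClosure h) *
      Nat.card (P : Subgroup G) := by
  rw [Subgroup.card_eq_card_quotient_mul_card_subgroup ((innerSub h).subgroupOf (bigSub h)),
    Nat.card_congr (Subgroup.subgroupOfEquivOfLe h.innerSub_le_bigSub).toEquiv, h.card_innerSub,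
    ← h.card_outer hP helem, Nat.add_sub_cancel, mul_assoc]

/-- The singular products lie in `W P`. -/
theorem singular_iff (hP : ¬ (P : Subgroup G).Normal) {x : G} (hxP : x ∈ (P : Subgroup G))
    (hx : orderOf x = 2) (t : G) :
    (IsConj x t ∧ ¬ Odd (orderOf (t * x))) ↔
      (t ∈ innerSub h ∧ orderOf t = 2) ∧ t * x ∉ coreClosure h := by
  have hxI : x ∈ innerSub h := Subgroup.mem_sup_right hxP
  constructor
  · rintro ⟨hc, hodd⟩
    have ht2 : orderOf t = 2 := (orderOf_eq_of_isConj hc).symm.trans hx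
    have hnW : t * x ∉ coreClosure h := fun hw =>
      hodd (h.odd_coreClosure.of_dvd_nat (Subgroup.orderOf_dvd_natCard _ hw))
    refine ⟨⟨?_, ht2⟩, hnW⟩
    have hev := Nat.not_odd_iff_even.1 hodd
    set k := orderOf (t * x) / 2
    have hv : orderOf ((t * x) ^ k) = 2 := orderOf_half hev (orderOf_pos _).ne'
    have e1 : t * (t * x) * t⁻¹ = (t * x)⁻¹ := conj_mul_eq_inv ht2 hx
    have e2 : x * (t * x) * x⁻¹ = (t * x)⁻¹ := by
      rw [mul_inv_rev, inv_eq_self ht2, inv_eq_self hx, mul_assoc x, mul_assoc t,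
        mul_self_eq_one hx, mul_one]
    have hcom : ∀ a : G, a * (t * x) * a⁻¹ = (t * x)⁻¹ → a * (t * x) ^ k = (t * x) ^ k * a :=
      fun a ha => mul_inv_eq_iff_eq_mul.1 (by rw [← conj_pow, ha, inv_pow, inv_eq_self hv])
    have hvM : (t * x) ^ k ∈ bigSub h := h.innerSub_le_bigSub
      (h.centralizer_le_innerSub hxP hx
        (Subgroup.mem_centralizer_singleton_iff.2 (hcom x e2).symm))
    exact h.centralizer_le_innerSub' hvM hv (Subgroup.mem_centralizer_singleton_iff.2 (hcom t e1))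
  · rintro ⟨⟨ht, ht2⟩, hnW⟩
    exact ⟨h.isConj_of_involution hP hx ht2,
      fun ho => hnW (h.mem_coreClosure_of_odd (mul_mem ht hxI) ho)⟩

/-- The number of singular products. -/
theorem card_singular (hP : ¬ (P : Subgroup G).Normal) (helem : ∀ a ∈ (P : Subgroup G), a * a = 1)
    {x : G} (hxP : x ∈ (P : Subgroup G)) (hx : orderOf x = 2) :
    Nat.card {t : G // IsConj x t ∧ ¬ Odd (orderOf (t * x))} * Nat.card (θ x) =
      (Nat.card (P : Subgroup G) - 2) * Nat.card (coreClosure h) := by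
  classical
  rw [Nat.card_congr (Equiv.subtypeEquivRight (h.singular_iff hP hxP hx))]
  have hall := h.card_invols hP helem hxP hx
  have hfib := h.card_fiber hP hxP hx hxP hx
  have e : Nat.card {t : G // (t ∈ innerSub h ∧ orderOf t = 2) ∧ t * x ∈ coreClosure h} +
      Nat.card {t : G // (t ∈ innerSub h ∧ orderOf t = 2) ∧ t * x ∉ coreClosure h} =
      Nat.card (Invols h) := by
    rw [← Nat.card_congr (Equiv.subtypeSubtypeEquivSubtypeInter _ (fun t => t * x ∈ coreClosure h)),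
      ← Nat.card_congr (Equiv.subtypeSubtypeEquivSubtypeInter _ (fun t => t * x ∉ coreClosure h)),
      ← Nat.card_sum]
    exact Nat.card_congr (Equiv.sumCompl fun s : Invols h => (s : G) * x ∈ coreClosure h)
  rw [← e, add_mul, hfib] at hall
  rw [show Nat.card (P : Subgroup G) - 2 = Nat.card (P : Subgroup G) - 1 - 1 by omega,
    Nat.sub_mul, one_mul, ← hall, Nat.add_sub_cancel_left]

/-- Which conjugates of a 2-singular element of `W P` lie in `x O(C(x))`. -/
theorem card_section (hP : ¬ (P : Subgroup G).Normal) (helem : ∀ a ∈ (P : Subgroup G), a * a = 1)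
    {x : G} (hxP : x ∈ (P : Subgroup G)) (hx : orderOf x = 2) {g : G} (hg : g ∈ innerSub h)
    (hgs : ¬ Odd (orderOf g)) :
    Nat.card {z : G // x⁻¹ * (z⁻¹ * g * z) ∈ θ x} = Nat.card CG(x) := by
  haveI : Fact (Nat.Prime 2) := ⟨Nat.prime_two⟩
  have hev := Nat.not_odd_iff_even.1 hgs
  set k := orderOf g / 2 with hk
  have hv : orderOf (g ^ k) = 2 := orderOf_half hev (orderOf_pos _).ne'
  obtain ⟨a, ha⟩ := isConj_iff.1 (h.isConj_of_involution hP hx hv)
  have hC : ∀ {c : G}, c ∈ CG(x) ↔ c * x = x * c := Subgroup.mem_centralizer_singleton_iff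
  set b := a⁻¹ * g * a with hb
  have hbk : b ^ k = x := by
    rw [hb, show a⁻¹ * g * a = a⁻¹ * g * a⁻¹⁻¹ by rw [inv_inv], conj_pow, ← ha]
    group
  have hbC : b ∈ CG(x) := hC.2 (by rw [← hbk]; exact Commute.self_pow b k)
  have hθn : ∀ c ∈ CG(x), ∀ y ∈ θ x, c * y * c⁻¹ ∈ θ x := fun c hc y hy =>
    (Subgroup.mem_normalizer_iff.1 (Balance.centralizer_le_normalizer_centralizerPPrimeCore 2 x hc) y).1 hy
  have hθC : θ x ≤ CG(x) := Balance.centralizerPPrimeCore_le_centralizer 2 x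
  -- squares in `C(x)` lie in the core
  have hsq : ∀ c ∈ CG(x), c * c ∈ θ x := by
    intro c hc
    have hci := h.centralizer_le_innerSub hxP hx hc
    obtain ⟨w, hw, p, hp, rfl⟩ := h.mem_innerSub_iff.1 hci
    have hwC : w ∈ CG(x) := by
      have := mul_mem hc (inv_mem (h.le_centralizer hxP hp))
      rwa [mul_inv_cancel_right] at this
    have hwθ : w ∈ θ x := by rw [← h.coreClosure_inf hxP hx]; exact ⟨hw, hwC⟩
    rw [show w * p * (w * p) = w * (p * w * p⁻¹) * (p * p) by group, helem p hp, mul_one]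
    exact mul_mem hwθ (hθn p (h.le_centralizer hxP hp) w hwθ)
  have hord : orderOf b = orderOf g := by
    rw [hb]; conv_lhs => rw [show a⁻¹ * g * a = a⁻¹ * g * a⁻¹⁻¹ by rw [inv_inv]]
    exact orderOf_conj _ _
  have h2k : orderOf g = 2 * k := by rw [hk, Nat.mul_div_cancel' hev.two_dvd]
  have hkodd : Odd k := by
    have h1 : Odd (orderOf (b * b)) := (Signalizer.ScnThree.odd_card_theta x).of_dvd_nat
      (Subgroup.orderOf_dvd_natCard _ (hsq b hbC))
    rwa [← pow_two, orderOf_pow, hord, h2k, Nat.gcd_eq_right (dvd_mul_right 2 k),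
      Nat.mul_div_cancel_left _ two_pos] at h1
  have hbθ : x⁻¹ * b ∈ θ x := by
    obtain ⟨j, hj⟩ := hkodd
    have e : x⁻¹ * b = (b * b) ^ (j + 1) := by
      calc x⁻¹ * b = b ^ k * b := by rw [inv_eq_self hx, hbk]
        _ = (b * b) ^ (j + 1) := by
          rw [← pow_succ, show k + 1 = 2 * (j + 1) by omega, pow_mul, pow_two]
    rw [e]
    exact pow_mem (hsq b hbC) _
  refine Nat.card_congr ((Equiv.mulLeft a⁻¹).subtypeEquiv fun z => ?_)
  show _ ↔ a⁻¹ * z ∈ CG(x)
  constructor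
  · intro hz
    set c := z⁻¹ * g * z with hc
    have hcC : c ∈ CG(x) := by
      have := mul_mem (hC.2 rfl : x ∈ CG(x)) (hθC hz)
      rwa [mul_inv_cancel_left] at this
    have hy : Odd (orderOf (x⁻¹ * c)) := (Signalizer.ScnThree.odd_card_theta x).of_dvd_nat
      (Subgroup.orderOf_dvd_natCard _ hz)
    have hcxy : Commute x (x⁻¹ * c) := (hC.1 (hθC hz)).symm
    have hck : c ^ k = x := by
      have hoc : orderOf c = orderOf g := by
        rw [hc]; conv_lhs => rw [show z⁻¹ * g * z = z⁻¹ * g * z⁻¹⁻¹ by rw [inv_inv]]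
        exact orderOf_conj _ _
      have h3 : orderOf c = 2 * orderOf (x⁻¹ * c) := by
        conv_lhs => rw [show c = x * (x⁻¹ * c) by group]
        rw [hcxy.orderOf_mul_eq_mul_orderOf_of_coprime (by rw [hx]; exact Nat.coprime_two_left.2 hy), hx]
      have hky : orderOf (x⁻¹ * c) = k := by omega
      rw [show c = x * (x⁻¹ * c) by group, hcxy.mul_pow, ← hky, pow_orderOf_eq_one, mul_one, hky]
      obtain ⟨j, hj⟩ := hkodd
      rw [hj, pow_succ, pow_mul, pow_two, mul_self_eq_one hx, one_pow, one_mul]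
    refine hC.2 ?_
    have e : z⁻¹ * (g ^ k) * z = x := by
      rw [← hck, hc, show z⁻¹ * g * z = z⁻¹ * g * z⁻¹⁻¹ by rw [inv_inv], conj_pow, inv_inv]
    rw [← ha] at e
    calc a⁻¹ * z * x = a⁻¹ * z * (z⁻¹ * (a * x * a⁻¹) * z) := by rw [e]
      _ = x * (a⁻¹ * z) := by group
  · intro hz
    set c := a⁻¹ * z
    have hcx : c * x⁻¹ = x⁻¹ * c := (Commute.inv_right (hC.1 hz : Commute c x)).eq
    have e : c⁻¹ * (x⁻¹ * b) * c⁻¹⁻¹ = x⁻¹ * (z⁻¹ * g * z) := by
      rw [inv_inv, show c⁻¹ * (x⁻¹ * b) * c = c⁻¹ * x⁻¹ * (b * c) by group,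
        show c⁻¹ * x⁻¹ = x⁻¹ * c⁻¹ by rw [inv_mul_eq_iff_eq_mul, ← mul_assoc, hcx, mul_inv_cancel_right]]
      simp only [hb, c]; group
    rw [← e]
    exact hθn _ (inv_mem hz) _ hbθ

/-- No conjugate of an element of odd order lies in `x O(C(x))`. -/
theorem card_section_odd {x : G} (hx : orderOf x = 2) {g : G} (hg : Odd (orderOf g)) :
    Nat.card {z : G // x⁻¹ * (z⁻¹ * g * z) ∈ θ x} = 0 := by
  refine Nat.card_eq_zero.2 (Or.inl ⟨fun ⟨z, hz⟩ => ?_⟩)
  have hcxy : Commute x (x⁻¹ * (z⁻¹ * g * z)) := (Subgroup.mem_centralizer_singleton_iff.1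
    (Balance.centralizerPPrimeCore_le_centralizer 2 x hz)).symm
  have hy : Odd (orderOf (x⁻¹ * (z⁻¹ * g * z))) := (Signalizer.ScnThree.odd_card_theta x).of_dvd_nat
    (Subgroup.orderOf_dvd_natCard _ hz)
  have h1 := hcxy.orderOf_mul_eq_mul_orderOf_of_coprime (by rw [hx]; exact Nat.coprime_two_left.2 hy)
  rw [mul_inv_cancel_left, show z⁻¹ * g * z = z⁻¹ * g * z⁻¹⁻¹ by rw [inv_inv], orderOf_conj, hx] at h1
  exact Nat.not_even_iff_odd.2 hg ⟨_, h1.trans (two_mul _)⟩

end Hyp

end CfsgLib.AbelianTwo
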